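import Cfsg.Agent.H24.Q5.Mat

/-!
# Task 5260 [Q5-M3] (S5211, block q = 5): elements of order 13 in `GL₄(5)` (helper689)
-/

set_option autoImplicit false

namespace Cfsg.Agent.H689.Q5

open Matrix Cfsg.Agent.H24.Q5

/-- fixed points of a map of prime order -/
theorem card_mod_p {α : Type*} [Finite α] (p : ℕ) [Fact p.Prime] (f : α → α) (hf : ∀ x, f^[p] x = x) :
    Nat.card α % p = Nat.card {x // f x = x} % p := by
  classical
  have := Fintype.ofFinite α
  let F : Function.End α := f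
  have hF : ∀ n : ℕ, F ^ n = f^[n] := by
    intro n
    induction n with
    | zero => rfl
    | succ n ih =>
      rw [pow_succ, ih]
      rfl
  have h : F ^ p ^ 1 = 1 := by
    rw [pow_one, hF]
    funext x
    exact hf x
  have := Equiv.Perm.card_fixedPoints_modEq (p := p) (n := 1) h
  rw [Nat.card_eq_fintype_card, Nat.card_eq_fintype_card]
  rw [Nat.ModEq] at this
  rw [this]
  congr 1

abbrev V5 := Fin 4 → ZMod 5

theorem card_sub (W : Submodule (ZMod 5) V5) : ∃ d ≤ 4, Nat.card W = 5 ^ d ∧ (d = 4 → W = ⊤) := by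
  classical
  have : Fact (Nat.Prime 5) := ⟨by norm_num⟩
  refine ⟨Module.finrank (ZMod 5) W, ?_, ?_, ?_⟩
  · have := Submodule.finrank_le W
    simpa using this
  · rw [Module.natCard_eq_pow_finrank (K := ZMod 5) (V := W), Nat.card_zmod]
  · intro h
    apply Submodule.eq_top_of_finrank_eq
    rw [h]
    simp

theorem iter {z : M5} (W : Submodule (ZMod 5) V5) (hW : ∀ v ∈ W, z *ᵥ v ∈ W) (n : ℕ) (v : W) :
    (((fun v : W => (⟨z *ᵥ v, hW v v.2⟩ : W))^[n] v : W) : V5) = (z ^ n) *ᵥ (v : V5) := by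
  induction n generalizing v with
  | zero => simp
  | succ n ih =>
    rw [Function.iterate_succ_apply, ih]
    rw [Matrix.mulVec_mulVec, ← pow_succ]

theorem fixed_zero {z : M5} (hz : z ^ 13 = 1) (hz1 : z ≠ 1) (v : V5) (hv : z *ᵥ v = v) : v = 0 := by
  have : Fact (Nat.Prime 13) := ⟨by norm_num⟩
  let W : Submodule (ZMod 5) V5 := LinearMap.ker (Matrix.mulVecLin (z - 1))
  have hWm : ∀ w, w ∈ W ↔ z *ᵥ w = w := by
    intro w
    rw [LinearMap.mem_ker, Matrix.mulVecLin_apply, Matrix.sub_mulVec, Matrix.one_mulVec, sub_eq_zero]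
  obtain ⟨d, hd4, hd, hdt⟩ := card_sub W
  have h1 := card_mod_p 13 (fun v : (⊤ : Submodule (ZMod 5) V5) => (⟨z *ᵥ v, Submodule.mem_top⟩ : (⊤ : Submodule (ZMod 5) V5))) (by
    intro x
    apply Subtype.ext
    have := iter (z := z) ⊤ (fun _ _ => Submodule.mem_top) 13 x
    rw [this, hz, Matrix.one_mulVec])
  have h2 : Nat.card {x : (⊤ : Submodule (ZMod 5) V5) // (⟨z *ᵥ x, Submodule.mem_top⟩ : (⊤ : Submodule (ZMod 5) V5)) = x} = Nat.card W := by
    refine Nat.card_congr ⟨fun x => ⟨x.1.1, (hWm _).mpr (congrArg Subtype.val x.2)⟩,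
      fun w => ⟨⟨w.1, Submodule.mem_top⟩, Subtype.ext ((hWm _).mp w.2)⟩, ?_, ?_⟩
    · intro x; rfl
    · intro x; rfl
  have h3 : Nat.card (⊤ : Submodule (ZMod 5) V5) = 625 := by
    rw [Nat.card_congr (Submodule.topEquiv (R := ZMod 5) (M := V5)).toEquiv]
    rw [Nat.card_eq_fintype_card, Fintype.card_fun, ZMod.card, Fintype.card_fin]
    norm_num
  rw [h2, h3, hd] at h1
  have h4 : d = 0 ∨ d = 4 := by
    interval_cases d <;> simp at h1 ⊢
  rcases h4 with rfl | rfl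
  · have h5 : Nat.card W = 1 := by rw [hd]; norm_num
    have h6 : (⟨v, (hWm v).mpr hv⟩ : W) = ⟨0, W.zero_mem⟩ :=
      ((Nat.card_eq_one_iff_unique.mp h5).1).elim _ _
    exact congrArg Subtype.val h6
  · exfalso
    apply hz1
    have h5 : W = ⊤ := hdt rfl
    have h6 : ∀ w, z *ᵥ w = w := fun w => (hWm w).mp (h5 ▸ Submodule.mem_top)
    apply Matrix.ext_of_mulVec_single
    intro i
    rw [h6, Matrix.one_mulVec]

/-- the centralizer of an element of order 13 is a domain -/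
theorem dom {z : M5} (hz : z ^ 13 = 1) (hz1 : z ≠ 1) {x y : M5} (hx : x * z = z * x) (hxy : x * y = 0) :
    x = 0 ∨ y = 0 := by
  have : Fact (Nat.Prime 13) := ⟨by norm_num⟩
  let W : Submodule (ZMod 5) V5 := LinearMap.ker (Matrix.mulVecLin x)
  have hWm : ∀ w, w ∈ W ↔ x *ᵥ w = 0 := by
    intro w
    rw [LinearMap.mem_ker, Matrix.mulVecLin_apply]
  have hWz : ∀ v ∈ W, z *ᵥ v ∈ W := by
    intro v hv
    rw [hWm] at hv ⊢
    rw [Matrix.mulVec_mulVec, hx, ← Matrix.mulVec_mulVec, hv, Matrix.mulVec_zero]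
  obtain ⟨d, hd4, hd, hdt⟩ := card_sub W
  have h1 := card_mod_p 13 (fun v : W => (⟨z *ᵥ v, hWz v v.2⟩ : W)) (by
    intro x
    apply Subtype.ext
    have := iter (z := z) W hWz 13 x
    rw [this, hz, Matrix.one_mulVec])
  have h2 : Nat.card {v : W // (⟨z *ᵥ v, hWz v v.2⟩ : W) = v} = 1 := by
    rw [Nat.card_eq_one_iff_unique]
    constructor
    · constructor
      rintro ⟨u, hu⟩ ⟨v, hv⟩
      apply Subtype.ext; apply Subtype.ext
      change (u : V5) = v
      rw [fixed_zero hz hz1 _ (congrArg Subtype.val hu), fixed_zero hz hz1 _ (congrArg Subtype.val hv)]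
    · exact ⟨⟨⟨0, W.zero_mem⟩, by apply Subtype.ext; simp⟩⟩
  rw [h2, hd] at h1
  have h4 : d = 0 ∨ d = 4 := by
    interval_cases d <;> simp at h1 ⊢
  rcases h4 with rfl | rfl
  · right
    have h5 : Nat.card W = 1 := by rw [hd]; norm_num
    have h6 : ∀ v, y *ᵥ v = 0 := by
      intro v
      have h7 : y *ᵥ v ∈ W := by
        rw [hWm, Matrix.mulVec_mulVec, hxy, Matrix.zero_mulVec]
      have h6 : (⟨_, h7⟩ : W) = ⟨0, W.zero_mem⟩ := ((Nat.card_eq_one_iff_unique.mp h5).1).elim _ _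
      exact congrArg Subtype.val h6
    apply Matrix.ext_of_mulVec_single
    intro i
    rw [h6, Matrix.zero_mulVec]
  · left
    have h5 : W = ⊤ := hdt rfl
    have h6 : ∀ w, x *ᵥ w = 0 := fun w => (hWm w).mp (h5 ▸ Submodule.mem_top)
    apply Matrix.ext_of_mulVec_single
    intro i
    rw [h6, Matrix.zero_mulVec]

instance fact_five : Fact (Nat.Prime 5) := ⟨by norm_num⟩

/-- the sum of the conjugates of `z` -/
def tau (z : M5) : M5 := z + z ^ 5 + z ^ 8 + z ^ 12

theorem five0 : (5 : M5) = 0 := by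
  have := CharP.cast_eq_zero M5 5
  exact_mod_cast this

theorem pow_mod13 {z : M5} (hz : z ^ 13 = 1) (n : ℕ) : z ^ n = z ^ (n % 13) := by
  conv_lhs => rw [← Nat.div_add_mod n 13, pow_add, pow_mul, hz, one_pow, one_mul]

theorem tau_comm (z : M5) : tau z * z = z * tau z := by
  simp only [tau, add_mul, mul_add, ← pow_succ, ← pow_succ']

theorem tau_frob {z : M5} (hz : z ^ 13 = 1) : tau z ^ 5 = tau z := by
  have hc : ∀ i j : ℕ, Commute (z ^ i) (z ^ j) := fun i j => Commute.pow_pow_self z i j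
  have hc1 : ∀ j : ℕ, Commute z (z ^ j) := fun j => Commute.self_pow z j
  have h1 : (z + z ^ 5) ^ 5 = z ^ 5 + (z ^ 5) ^ 5 := add_pow_char_of_commute 5 (hc1 5)
  have h2 : (z + z ^ 5 + z ^ 8) ^ 5 = (z + z ^ 5) ^ 5 + (z ^ 8) ^ 5 :=
    add_pow_char_of_commute 5 ((hc1 8).add_left (hc 5 8))
  have h3 : (z + z ^ 5 + z ^ 8 + z ^ 12) ^ 5 = (z + z ^ 5 + z ^ 8) ^ 5 + (z ^ 12) ^ 5 :=
    add_pow_char_of_commute 5 (((hc1 12).add_left (hc 5 12)).add_left (hc 8 12))
  rw [tau, h3, h2, h1, ← pow_mul, ← pow_mul, ← pow_mul, pow_mod13 hz (5 * 5), pow_mod13 hz (8 * 5), pow_mod13 hz (12 * 5)]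
  norm_num
  abel

/-- the sum of the conjugates is a scalar -/
theorem tau_scalar {z : M5} (hz : z ^ 13 = 1) (hz1 : z ≠ 1) : ∃ i : ℕ, i < 5 ∧ tau z = (i : M5) := by
  have hfac : tau z * ((tau z - 1) * ((tau z - 2) * ((tau z - 3) * (tau z - 4)))) = 0 := by
    have h1 : tau z * ((tau z - 1) * ((tau z - 2) * ((tau z - 3) * (tau z - 4)))) =
        tau z ^ 5 - 10 * tau z ^ 4 + 35 * tau z ^ 3 - 50 * tau z ^ 2 + 24 * tau z := by noncomm_ring
    have h10 : (10 : M5) = 0 := by rw [show (10 : M5) = 2 * 5 by norm_num, five0, mul_zero]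
    have h35 : (35 : M5) = 0 := by rw [show (35 : M5) = 7 * 5 by norm_num, five0, mul_zero]
    have h50 : (50 : M5) = 0 := by rw [show (50 : M5) = 10 * 5 by norm_num, five0, mul_zero]
    have h24 : (24 : M5) = -1 := by
      rw [show (24 : M5) = 5 * 5 - 1 by norm_num, five0, mul_zero, zero_sub]
    rw [h1, tau_frob hz, h10, h35, h50, h24]
    simp
  have hcomm : ∀ k : M5, k * z = z * k → (tau z - k) * z = z * (tau z - k) := by
    intro k hk
    rw [sub_mul, mul_sub, tau_comm, hk]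
  rcases dom hz hz1 (tau_comm z) hfac with h | h
  · exact ⟨0, by norm_num, by rw [h]; norm_num⟩
  rcases dom hz hz1 (hcomm 1 (by simp)) h with h | h
  · exact ⟨1, by norm_num, by rw [sub_eq_zero.mp h]; norm_num⟩
  rcases dom hz hz1 (hcomm 2 (by noncomm_ring)) h with h | h
  · exact ⟨2, by norm_num, by rw [sub_eq_zero.mp h]; norm_num⟩
  rcases dom hz hz1 (hcomm 3 (by noncomm_ring)) h with h | h
  · exact ⟨3, by norm_num, by rw [sub_eq_zero.mp h]; norm_num⟩
  · exact ⟨4, by norm_num, by rw [sub_eq_zero.mp h]; norm_num⟩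

theorem ne_of_pow {z : M5} (hz : z ^ 13 = 1) (hz1 : z ≠ 1) {k : ℕ} (hk : ¬ 13 ∣ k) : z ^ k ≠ 1 := by
  intro h
  have h1 : orderOf z ∣ 13 := orderOf_dvd_of_pow_eq_one hz
  have h2 : orderOf z ∣ k := orderOf_dvd_of_pow_eq_one h
  rcases (Nat.dvd_prime (by norm_num)).mp h1 with h3 | h3
  · exact hz1 (orderOf_eq_one_iff.mp h3)
  · rw [h3] at h2; exact hk h2

theorem gen_sq0 {R : Type*} [Ring R] (z : R) : (z + z ^ 5 + z ^ 8 + z ^ 12) ^ 2 =
    z ^ 2 + z ^ 10 + z ^ 16 + z ^ 24 + 2 * (z ^ 6 + z ^ 9 + z ^ 13 + z ^ 13 + z ^ 17 + z ^ 20) := by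
  noncomm_ring

theorem gen_sq {R : Type*} [Ring R] (z : R) (hz : z ^ 13 = 1) : (z + z ^ 5 + z ^ 8 + z ^ 12) ^ 2 =
    (z ^ 3 + z ^ 2 + z ^ 11 + z ^ 10) + 2 * (z ^ 9 + z ^ 6 + z ^ 7 + z ^ 4) + 4 := by
  have h16 : z ^ 16 = z ^ 3 := by rw [show 16 = 13 + 3 by norm_num, pow_add, hz, one_mul]
  have h24 : z ^ 24 = z ^ 11 := by rw [show 24 = 13 + 11 by norm_num, pow_add, hz, one_mul]
  have h17 : z ^ 17 = z ^ 4 := by rw [show 17 = 13 + 4 by norm_num, pow_add, hz, one_mul]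
  have h20 : z ^ 20 = z ^ 7 := by rw [show 20 = 13 + 7 by norm_num, pow_add, hz, one_mul]
  rw [gen_sq0, h16, h24, h17, h20, hz, show (4 : R) = 1 + 1 + 1 + 1 by norm_num]
  noncomm_ring

/-- `z` is not conjugate to `z ^ 3` -/
theorem n3 {z x y : M5} (hz : z ^ 13 = 1) (hz1 : z ≠ 1) (hxy : x * y = 1) : x * z * y ≠ z ^ 3 := by
  intro h
  have hyx : y * x = 1 := mul_eq_one_comm.mp hxy
  have hpow : ∀ k : ℕ, x * z ^ k * y = z ^ (3 * k) := by
    intro k
    induction k with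
    | zero => rw [pow_zero, mul_one, hxy]
    | succ k ih =>
      calc x * z ^ (k + 1) * y = (x * z ^ k * y) * (x * z * y) := by
            rw [pow_succ]
            calc x * (z ^ k * z) * y = x * z ^ k * 1 * z * y := by noncomm_ring
              _ = x * z ^ k * (y * x) * z * y := by rw [hyx]
              _ = (x * z ^ k * y) * (x * z * y) := by noncomm_ring
        _ = z ^ (3 * (k + 1)) := by rw [ih, h, ← pow_add]; ring_nf
  obtain ⟨i, hi5, hi⟩ := tau_scalar hz hz1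
  have hcast : x * (i : M5) * y = (i : M5) := by
    rw [← Nat.cast_comm, mul_assoc, hxy, mul_one]
  have h1 : z ^ 3 + z ^ 2 + z ^ 11 + z ^ 10 = (i : M5) := by
    rw [← hcast, ← hi, tau]
    have := hpow 1
    rw [pow_one] at this
    rw [mul_add, mul_add, mul_add, add_mul, add_mul, add_mul, this, hpow, hpow, hpow, pow_mod13 hz (3 * 5),
      pow_mod13 hz (3 * 8), pow_mod13 hz (3 * 12)]
  have h2 : z ^ 9 + z ^ 6 + z ^ 7 + z ^ 4 = (i : M5) := by
    rw [← hcast, ← h1]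
    rw [mul_add, mul_add, mul_add, add_mul, add_mul, add_mul, hpow, hpow, hpow, hpow, pow_mod13 hz (3 * 11),
      pow_mod13 hz (3 * 10)]
  have h3 : (z - 1) * (1 + (z + z ^ 5 + z ^ 8 + z ^ 12) + (z ^ 3 + z ^ 2 + z ^ 11 + z ^ 10) +
      (z ^ 9 + z ^ 6 + z ^ 7 + z ^ 4)) = 0 := by
    have : (z - 1) * (1 + (z + z ^ 5 + z ^ 8 + z ^ 12) + (z ^ 3 + z ^ 2 + z ^ 11 + z ^ 10) +
      (z ^ 9 + z ^ 6 + z ^ 7 + z ^ 4)) = z ^ 13 - 1 := by noncomm_ring
    rw [this, hz, sub_self]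
  have h4 := (dom hz hz1 (by rw [sub_mul, mul_sub, one_mul, mul_one]) h3).resolve_left (sub_ne_zero.mpr hz1)
  have hsq2 : tau z ^ 2 = (z ^ 3 + z ^ 2 + z ^ 11 + z ^ 10) + 2 * (z ^ 9 + z ^ 6 + z ^ 7 + z ^ 4) + 4 :=
    gen_sq z hz
  rw [hi, h1, h2] at hsq2
  rw [← tau, hi, h1, h2] at h4
  have e1 : ((1 + i + i + i : ℕ) : M5) = ((0 : ℕ) : M5) := by push_cast; exact h4
  have e2 : ((i ^ 2 : ℕ) : M5) = ((i + 2 * i + 4 : ℕ) : M5) := by push_cast; exact hsq2
  rw [CharP.cast_eq_iff_mod_eq M5 5] at e1 e2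
  interval_cases i <;> simp at e1 e2

/-- the involutions of the centralizer of `z` -/
theorem c2 {z c : M5} (hz : z ^ 13 = 1) (hz1 : z ≠ 1) (hc : c * z = z * c) (hiso : cᵀ * Om * c = Om)
    (h : c ^ 2 = 1 ∨ c ^ 2 = -1) : c = 1 ∨ c = -1 := by
  have hcomm : ∀ k : M5, k * z = z * k → (c - k) * z = z * (c - k) := by
    intro k hk
    rw [sub_mul, mul_sub, hc, hk]
  rcases h with h | h
  · have h1 : (c - 1) * (c + 1) = 0 := by
      have : (c - 1) * (c + 1) = c ^ 2 - 1 := by noncomm_ring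
      rw [this, h, sub_self]
    rcases dom hz hz1 (hcomm 1 (by simp)) h1 with h2 | h2
    · left; exact sub_eq_zero.mp h2
    · right; exact eq_neg_of_add_eq_zero_left h2
  · exfalso
    have h1 : (c - 2) * (c + 2) = 0 := by
      have e4 : (2 : M5) * 2 = -1 + 5 := by norm_num
      have : (c - 2) * (c + 2) = c ^ 2 - 2 * 2 := by noncomm_ring
      rw [this, h, e4, five0]; simp
    have h3 : c = 2 ∨ c = -2 := by
      rcases dom hz hz1 (hcomm 2 (by noncomm_ring)) h1 with h2 | h2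
      · left; exact sub_eq_zero.mp h2
      · right; exact eq_neg_of_add_eq_zero_left h2
    rcases h3 with rfl | rfl
    · revert hiso; decide +kernel
    · revert hiso; decide +kernel

/-- generic identities -/
theorem gen_u {R : Type*} [Ring R] (c : R) (hc : c ^ 3 = 1) (h : 1 + c + c ^ 2 = 0) (h5 : (5 : R) = 0) :
    (c - c ^ 2) ^ 2 = 2 := by
  have h1 : (c - c ^ 2) ^ 2 = c ^ 2 - 2 * c ^ 3 + c ^ 3 * c := by noncomm_ring
  have h2 : c ^ 2 = -1 - c := by
    calc c ^ 2 = (1 + c + c ^ 2) - 1 - c := by noncomm_ring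
      _ = -1 - c := by rw [h]; noncomm_ring
  rw [h1, hc, h2]
  calc -1 - c - 2 * 1 + 1 * c = 2 - 5 := by
        rw [show (5 : R) = 1 + 1 + 1 + 1 + 1 by norm_num, show (2 : R) = 1 + 1 by norm_num]; noncomm_ring
    _ = 2 := by rw [h5, sub_zero]

theorem gen_w {R : Type*} [Ring R] (h5 : (5 : R) = 0) {z : R} (hz : z ^ 13 = 1) {i j : ℕ}
    (hi : z + z ^ 5 + z ^ 8 + z ^ 12 = (i : R)) (hj : z ^ 9 + z ^ 6 + z ^ 7 + z ^ 4 = (j : R)) :
    (z + z ^ 12 - 3 * (i : R)) * (z + z ^ 12 - 3 * (i : R)) = ((4 * i ^ 2 + 4 * j : ℕ) : R) := by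
  have h17 : z ^ 17 = z ^ 4 := by rw [show 17 = 13 + 4 by norm_num, pow_add, hz, one_mul]
  have h20 : z ^ 20 = z ^ 7 := by rw [show 20 = 13 + 7 by norm_num, pow_add, hz, one_mul]
  have h1 : (z + z ^ 12) * (z ^ 5 + z ^ 8) = (j : R) := by
    have : (z + z ^ 12) * (z ^ 5 + z ^ 8) = z ^ 6 + z ^ 9 + z ^ 17 + z ^ 20 := by noncomm_ring
    rw [this, h17, h20, ← hj]
    abel
  have h2 : z ^ 5 + z ^ 8 = (i : R) - (z + z ^ 12) := by rw [← hi]; abel
  generalize hs : z + z ^ 12 = s at h1 h2 ⊢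
  rw [h2, mul_sub] at h1
  have h3 : s * s = s * (i : R) - (j : R) := by rw [← h1]; abel
  have h4 : (i : R) * s = s * (i : R) := Nat.cast_comm i s
  calc (s - 3 * (i : R)) * (s - 3 * (i : R)) = s * s - 3 * (s * (i : R)) - 3 * ((i : R) * s) + 9 * ((i : R) * (i : R)) := by
        noncomm_ring
    _ = 4 * (i : R) ^ 2 + 4 * (j : R) + 5 * ((i : R) * (i : R)) - 5 * (j : R) - 5 * (s * (i : R)) := by
        rw [h4, h3]; noncomm_ring
    _ = ((4 * i ^ 2 + 4 * j : ℕ) : R) := by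
        rw [h5, zero_mul, zero_mul, zero_mul, add_zero, sub_zero, sub_zero]
        push_cast
        rfl

theorem gen_wu {R : Type*} [Ring R] {w u : R} (hc : w * u = u * w) (k : R) (hk : k * w = w * k) (hku : k * u = u * k) :
    (w - k * u) * (w + k * u) = w * w - k * k * (u ^ 2) := by
  have h1 : (w - k * u) * (w + k * u) = w * w + w * k * u - k * (u * w) - k * (u * k) * u := by noncomm_ring
  rw [h1, ← hc, ← hk, ← hku]
  noncomm_ring

theorem adj_pow {x y : M5} (h : xᵀ * Om = Om * y) (k : ℕ) : (x ^ k)ᵀ * Om = Om * y ^ k := by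
  induction k with
  | zero => simp
  | succ k ih =>
    rw [pow_succ, pow_succ', Matrix.transpose_mul, Matrix.mul_assoc, ih, ← Matrix.mul_assoc, h, Matrix.mul_assoc]

/-- the elements of order 3 of the centralizer of `z` -/
theorem c3 {z c : M5} (hz : z ^ 13 = 1) (hz1 : z ≠ 1) (hc : c * z = z * c) (hisoz : zᵀ * Om * z = Om)
    (hiso : cᵀ * Om * c = Om) (h : c ^ 3 = 1) : c = 1 := by
  by_contra hc1
  have hcomm : ∀ k : M5, k * z = z * k → (c - k) * z = z * (c - k) := by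
    intro k hk
    rw [sub_mul, mul_sub, hc, hk]
  have hz12 : z * z ^ 12 = 1 := by rw [← pow_succ', hz]
  have hcc : c * c ^ 2 = 1 := by rw [← pow_succ', h]
  have h1 : 1 + c + c ^ 2 = 0 := by
    have h2 : (c - 1) * (1 + c + c ^ 2) = 0 := by
      have : (c - 1) * (1 + c + c ^ 2) = c ^ 3 - 1 := by noncomm_ring
      rw [this, h, sub_self]
    exact (dom hz hz1 (hcomm 1 (by simp)) h2).resolve_left (sub_ne_zero.mpr hc1)
  -- adjoints
  have adjz : zᵀ * Om = Om * z ^ 12 := by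
    calc zᵀ * Om = zᵀ * Om * (z * z ^ 12) := by rw [hz12, mul_one]
      _ = (zᵀ * Om * z) * z ^ 12 := by noncomm_ring
      _ = Om * z ^ 12 := by rw [hisoz]
  have adjc : cᵀ * Om = Om * c ^ 2 := by
    calc cᵀ * Om = cᵀ * Om * (c * c ^ 2) := by rw [hcc, mul_one]
      _ = (cᵀ * Om * c) * c ^ 2 := by noncomm_ring
      _ = Om * c ^ 2 := by rw [hiso]
  have adjz12 : (z ^ 12)ᵀ * Om = Om * z := by
    rw [adj_pow adjz 12, ← pow_mul, pow_mod13 hz (12 * 12)]
    norm_num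
  have adjc2 : (c ^ 2)ᵀ * Om = Om * c := by
    rw [adj_pow adjc 2, ← pow_mul, show 2 * 2 = 3 + 1 by norm_num, pow_succ, h, one_mul]
  obtain ⟨i, hi5, hi⟩ := tau_scalar hz hz1
  obtain ⟨j, hj5, hj⟩ := tau_scalar (z := z ^ 9) (by rw [← pow_mul, mul_comm, pow_mul, hz, one_pow])
    (ne_of_pow hz hz1 (by norm_num))
  have hj' : z ^ 9 + z ^ 6 + z ^ 7 + z ^ 4 = (j : M5) := by
    rw [← hj, tau, ← pow_mul, ← pow_mul, ← pow_mul, pow_mod13 hz (9 * 5), pow_mod13 hz (9 * 8), pow_mod13 hz (9 * 12)]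
  have hw := gen_w five0 hz hi hj'
  have hu := gen_u c h h1 five0
  have hwadj : (z + z ^ 12 - 3 * (i : M5))ᵀ * Om = Om * (z + z ^ 12 - 3 * (i : M5)) := by
    have h3i : ((3 : M5) * (i : M5))ᵀ = 3 * (i : M5) := by
      have : (3 : M5) * (i : M5) = ((3 * i : ℕ) : M5) := by push_cast; rfl
      rw [this, Matrix.transpose_natCast]
    have h3i' : (3 : M5) * (i : M5) * Om = Om * (3 * (i : M5)) := by
      have : (3 : M5) * (i : M5) = ((3 * i : ℕ) : M5) := by push_cast; rfl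
      rw [this]; exact Nat.cast_comm _ _
    rw [Matrix.transpose_sub, Matrix.transpose_add, h3i, sub_mul, add_mul, adjz, adjz12, h3i', mul_sub, mul_add]
    abel
  have huadj : (c - c ^ 2)ᵀ * Om = - (Om * (c - c ^ 2)) := by
    rw [Matrix.transpose_sub, sub_mul, adjc, adjc2, mul_sub]
    abel
  have hwz : (z + z ^ 12 - 3 * (i : M5)) * z = z * (z + z ^ 12 - 3 * (i : M5)) := by
    have : Commute (z + z ^ 12 - 3 * (i : M5)) z := by
      refine Commute.sub_left (Commute.add_left (Commute.refl z) (Commute.pow_self z 12)) ?_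
      have : (3 : M5) * (i : M5) = ((3 * i : ℕ) : M5) := by push_cast; rfl
      rw [this]; exact Nat.cast_commute _ _
    exact this.eq
  have hwu : (z + z ^ 12 - 3 * (i : M5)) * (c - c ^ 2) = (c - c ^ 2) * (z + z ^ 12 - 3 * (i : M5)) := by
    have hcz : Commute z c := hc.symm
    have : Commute (z + z ^ 12 - 3 * (i : M5)) (c - c ^ 2) := by
      have h3 : Commute (z + z ^ 12 - 3 * (i : M5)) c := by
        refine Commute.sub_left (Commute.add_left hcz (hcz.pow_left 12)) ?_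
        have : (3 : M5) * (i : M5) = ((3 * i : ℕ) : M5) := by push_cast; rfl
        rw [this]; exact Nat.cast_commute _ _
      exact Commute.sub_right h3 (h3.pow_right 2)
    exact this.eq
  have huz : (c - c ^ 2) * z = z * (c - c ^ 2) := by
    have hcz : Commute c z := hc
    exact (Commute.sub_left hcz (hcz.pow_left 2)).eq
  have hs5 : (z + z ^ 12) ^ 5 = z ^ 5 + z ^ 8 := by
    rw [add_pow_char_of_commute 5 (Commute.self_pow z 12), ← pow_mul, pow_mod13 hz (12 * 5)]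
  have hi5' : (3 * (i : M5)) ^ 5 = 3 * (i : M5) := by
    have : (3 : M5) * (i : M5) = ((3 * i : ℕ) : M5) := by push_cast; rfl
    rw [this, ← Nat.cast_pow, CharP.cast_eq_iff_mod_eq M5 5]
    interval_cases i <;> rfl
  generalize hweq : z + z ^ 12 - 3 * (i : M5) = w at hw hwadj hwz hwu
  generalize hueq : c - c ^ 2 = u at hu huadj hwu huz
  have hs : z + z ^ 12 = w + 3 * (i : M5) := by rw [← hweq]; abel
  have hw5 : w ^ 5 ≠ w := by
    intro h5
    have hcw : Commute w (3 * (i : M5)) := by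
      have : (3 : M5) * (i : M5) = ((3 * i : ℕ) : M5) := by push_cast; rfl
      rw [this]; exact (Nat.cast_commute _ _).symm
    have h6 : z ^ 5 + z ^ 8 = z + z ^ 12 := by
      rw [← hs5, hs, add_pow_char_of_commute 5 hcw, h5, hi5']
    have h7 : (z ^ 5 - z) * (1 - z ^ 7) = 0 := by
      have : (z ^ 5 - z) * (1 - z ^ 7) = (z ^ 5 + z ^ 8) - (z + z ^ 12) := by noncomm_ring
      rw [this, h6, sub_self]
    have hc5 : Commute (z ^ 5 - z) z := Commute.sub_left (Commute.pow_self z 5) (Commute.refl z)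
    rcases dom hz hz1 hc5.eq h7 with h8 | h8
    · have h9 : z ^ 4 = 1 := by
        have h10 : z ^ 5 = z := sub_eq_zero.mp h8
        calc z ^ 4 = z ^ 12 * z ^ 5 := by rw [← pow_add, pow_mod13 hz (12 + 5)]
          _ = z ^ 12 * z := by rw [h10]
          _ = 1 := by rw [← pow_succ, hz]
      exact ne_of_pow hz hz1 (by norm_num) h9
    · exact ne_of_pow hz hz1 (by norm_num) (sub_eq_zero.mp h8).symm
  -- the scalar `w²`
  obtain ⟨d, hd5, hd⟩ : ∃ d : ℕ, d < 5 ∧ w * w = (d : M5) := by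
    refine ⟨(4 * i ^ 2 + 4 * j) % 5, Nat.mod_lt _ (by norm_num), ?_⟩
    rw [hw, CharP.cast_eq_iff_mod_eq M5 5, Nat.mod_mod]
  have hfin : ∀ k : ℕ, (d : M5) = (k : M5) * (k : M5) * 2 → False := by
    intro k hk
    have hku : (k : M5) * u = u * (k : M5) := Nat.cast_comm k u
    have h2 := gen_wu hwu (k : M5) (Nat.cast_comm k w) hku
    rw [hd, hu, hk, sub_self] at h2
    have hkz : (w - (k : M5) * u) * z = z * (w - (k : M5) * u) := by
      have h3 : Commute w z := hwz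
      have h4 : Commute u z := huz
      exact (Commute.sub_left h3 (Commute.mul_left (Nat.cast_commute k z) h4)).eq
    have hkadj : ((k : M5) * u)ᵀ * Om = - (Om * ((k : M5) * u)) := by
      rw [Matrix.transpose_mul, Matrix.transpose_natCast, ← (Nat.cast_comm k uᵀ), mul_assoc, huadj, mul_neg, ← mul_assoc,
        Nat.cast_comm k Om, mul_assoc]
    have h5 : wᵀ * Om = - (Om * w) := by
      rcases dom hz hz1 hkz h2 with h3 | h3
      · rw [sub_eq_zero] at h3
        rw [h3]; exact hkadj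
      · have h4 : w = - ((k : M5) * u) := eq_neg_of_add_eq_zero_left h3
        rw [h4, Matrix.transpose_neg, neg_mul, hkadj, mul_neg]
    rw [hwadj] at h5
    have hOm : Om * Om * Om * Om = 1 := by decide +kernel
    have h6 : Om * w + Om * w = 0 := by nth_rw 1 [h5]; exact neg_add_cancel _
    have h7 : Om * w = 0 := by
      calc Om * w = 3 * (Om * w + Om * w) - 5 * (Om * w) := by
            generalize Om * w = t
            noncomm_ring
        _ = 0 := by rw [h6, five0, mul_zero, zero_mul, sub_zero]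
    have h8 : w = 0 := by
      calc w = Om * Om * Om * Om * w := by rw [hOm, one_mul]
        _ = Om * Om * Om * (Om * w) := by rw [mul_assoc]
        _ = 0 := by rw [h7, mul_zero]
    apply hw5
    rw [h8]; simp
  have hw5' : w ^ 5 = w * ((w * w) * (w * w)) := by noncomm_ring
  interval_cases d
  · apply hw5
    have h2 : w * w = 0 := by rw [hd]; norm_num
    rcases dom hz hz1 hwz h2 with h3 | h3 <;> rw [h3] <;> simp
  · apply hw5
    rw [hw5', hd]; simp
  · exact hfin 1 (by norm_num)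
  · apply hfin 2
    rw [show ((3 : ℕ) : M5) = 8 - 5 by norm_num, five0]; norm_num
  · apply hw5
    rw [hw5', hd]
    rw [show ((4 : ℕ) : M5) * ((4 : ℕ) : M5) = 1 + 3 * 5 by norm_num, five0]; simp

end Cfsg.Agent.H689.Q5
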