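import Cfsg.Agent.H689.Q5.Grp
import Cfsg.Agent.H689.Q5.Thirteen

/-!
# Task 5260 [Q5-M3] (S5211, block q = 5): the structure of `L` (helper689)

`stM3 : StM1 → StM3`.
-/

set_option autoImplicit false

namespace Cfsg.Agent.H689.Q5

open Cfsg.Agent.H24.Q5
open Subgroup (zpowers mem_zpowers)

section
variable {L : Subgroup M5ˣ} (hm : (-1 : M5ˣ) ∈ L)

/-- the element `-1` -/
def nn : L := ⟨-1, hm⟩

theorem nn_mul (x : L) : ((nn hm * x : L) : M5ˣ) = - (x : M5ˣ) := by
  change (-1 : M5ˣ) * (x : M5ˣ) = _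
  rw [neg_one_mul]

theorem nn_comm (x : L) : nn hm * x = x * nn hm := by
  apply Subtype.ext
  change (-1 : M5ˣ) * (x : M5ˣ) = (x : M5ˣ) * (-1)
  rw [neg_one_mul, mul_neg_one]

theorem nn_sq : nn hm * nn hm = 1 := by
  apply Subtype.ext
  change (-1 : M5ˣ) * (-1) = 1
  rw [neg_one_mul, neg_neg]

theorem nn_ne : nn hm ≠ 1 := by
  intro h
  have h1 : (-1 : M5ˣ) = 1 := congrArg Subtype.val h
  have h2 : (-1 : M5) = 1 := congrArg Units.val h1
  revert h2
  decide +kernel

/-- the centre `{1, -1}` -/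
def ZZ : Subgroup L := zpowers (nn hm)

theorem mem_ZZ (x : L) : x ∈ ZZ hm ↔ x = 1 ∨ x = nn hm := by
  constructor
  · rintro ⟨k, rfl⟩
    change nn hm ^ k = 1 ∨ nn hm ^ k = nn hm
    have h2 : nn hm ^ (2 : ℤ) = 1 := by
      rw [show (2 : ℤ) = 1 + 1 by norm_num, zpow_add, zpow_one]; exact nn_sq hm
    rcases Int.even_or_odd' k with ⟨m, rfl | rfl⟩
    · left; rw [zpow_mul, h2, one_zpow]
    · right; rw [zpow_add, zpow_mul, h2, one_zpow, one_mul, zpow_one]
  · rintro (rfl | rfl)
    · exact (ZZ hm).one_mem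
    · exact mem_zpowers _

instance ZZ_normal : (ZZ hm).Normal := ⟨by
  intro x hx g
  rw [mem_ZZ] at hx ⊢
  rcases hx with rfl | rfl
  · left; group
  · right; rw [← nn_comm, mul_inv_cancel_right]⟩

theorem card_ZZ : Nat.card (ZZ hm) = 2 := by
  rw [ZZ, Nat.card_zpowers]
  have : Fact (Nat.Prime 2) := ⟨by norm_num⟩
  exact orderOf_eq_prime (by rw [pow_two]; exact nn_sq hm) (nn_ne hm)

theorem mk_eq (x y : L) : (QuotientGroup.mk x : L ⧸ ZZ hm) = QuotientGroup.mk y ↔ x = y ∨ x = nn hm * y := by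
  rw [eq_comm, QuotientGroup.eq, mem_ZZ]
  constructor
  · rintro (h | h)
    · left; rw [inv_mul_eq_one] at h; exact h.symm
    · right; rw [nn_comm, ← h, mul_inv_cancel_left]
  · rintro (rfl | rfl)
    · left; group
    · right; rw [nn_comm, inv_mul_cancel_left]

/-- odd powers -/
theorem nn_mul_pow (x : L) (k : ℕ) : (nn hm * x) ^ (2 * k + 1) = nn hm * x ^ (2 * k + 1) := by
  have h : Commute (nn hm) x := nn_comm hm x
  rw [h.mul_pow, pow_succ, pow_mul, pow_two, nn_sq, one_pow, one_mul]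

/-- `x y x⁻¹ = -w` is impossible for elements of odd order -/
theorem conj_pm {x y w : L} (k : ℕ) (hy : y ^ (2 * k + 1) = 1) (hw : w ^ (2 * k + 1) = 1)
    (h : (QuotientGroup.mk (x * y * x⁻¹) : L ⧸ ZZ hm) = QuotientGroup.mk w) : x * y * x⁻¹ = w := by
  rcases (mk_eq hm _ _).mp h with h | h
  · exact h
  · exfalso
    apply nn_ne hm
    have h1 := congrArg (· ^ (2 * k + 1)) h
    simp only [conj_pow, hy, mul_one, mul_inv_cancel, nn_mul_pow, hw] at h1
    exact h1.symm

/-- lifting elements of odd order -/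
theorem lift_odd (k : ℕ) (x : L ⧸ ZZ hm) (hx : x ^ (2 * k + 1) = 1) :
    ∃ t : L, QuotientGroup.mk t = x ∧ t ^ (2 * k + 1) = 1 := by
  induction x using QuotientGroup.induction_on with
  | H t =>
    have h1 : (QuotientGroup.mk (t ^ (2 * k + 1)) : L ⧸ ZZ hm) = QuotientGroup.mk 1 := by
      rw [QuotientGroup.mk_pow, hx]; rfl
    rcases (mk_eq hm _ _).mp h1 with h | h
    · exact ⟨t, rfl, h⟩
    · refine ⟨nn hm * t, ?_, ?_⟩
      · rw [mk_eq]; right; rfl
      · rw [nn_mul_pow, h, mul_one, nn_sq]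

end

theorem stM3 (h1 : StM1) : StM3 := by
  intro L hL hm
  obtain ⟨-, -, F3, F4, F5⟩ := h1 L hL
  have hfin : Finite L := inferInstance
  let a : L := ⟨gA, hL.memA⟩
  have ha5 : a ^ 5 = 1 := by
    apply Subtype.ext
    change gA ^ 5 = 1
    apply Units.ext
    change mA ^ 5 = 1
    exact mA5
  have ha1 : a ≠ 1 := by
    intro h
    have h1 : gA = 1 := congrArg Subtype.val h
    have h2 : mA = 1 := congrArg Units.val h1
    revert h2
    decide +kernel
  have hcard : Nat.card L = Nat.card (L ⧸ ZZ hm) * 2 := by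
    rw [← card_ZZ hm]; exact (ZZ hm).card_eq_card_quotient_mul_card_subgroup
  let b : L ⧸ ZZ hm := QuotientGroup.mk a
  have hb1 : b ≠ 1 := by
    intro h
    have h2 : (QuotientGroup.mk a : L ⧸ ZZ hm) = QuotientGroup.mk 1 := h
    rcases (mk_eq hm _ _).mp h2 with h | h
    · exact ha1 h
    · apply nn_ne hm
      calc nn hm = (nn hm * 1) ^ (2 * 2 + 1) := by rw [nn_mul_pow, one_pow, mul_one]
        _ = a ^ 5 := by rw [← h]
        _ = 1 := ha5
  have hgenL : Subgroup.closure {x : L | x ^ 5 = 1} = ⊤ := by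
    rw [eq_top_iff]
    intro x _
    have h2 : (Subgroup.closure {x : L | x ^ 5 = 1}).map L.subtype = Subgroup.closure {g | g ∈ L ∧ g ^ 5 = 1} := by
      rw [MonoidHom.map_closure]
      congr 1
      ext g
      constructor
      · rintro ⟨y, hy, rfl⟩
        exact ⟨y.2, by
          have : y ^ 5 = 1 := hy
          exact congrArg Subtype.val this⟩
      · rintro ⟨hg, hg5⟩
        exact ⟨⟨g, hg⟩, Subtype.ext hg5, rfl⟩
    have h3 : (x : M5ˣ) ∈ (Subgroup.closure {x : L | x ^ 5 = 1}).map L.subtype := by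
      rw [h2]; exact hL.gen x.2
    obtain ⟨y, hy, hyx⟩ := h3
    have : y = x := Subtype.ext hyx
    rw [← this]; exact hy
  have H : HQ b := by
    refine ⟨?_, ?_, ?_, ?_, ?_⟩
    · have : Fact (Nat.Prime 5) := ⟨by norm_num⟩
      refine orderOf_eq_prime ?_ hb1
      change (QuotientGroup.mk a : L ⧸ ZZ hm) ^ 5 = 1
      rw [← QuotientGroup.mk_pow, ha5]; rfl
    · intro x hx
      induction x using QuotientGroup.induction_on with
      | H x =>
        have h2 : (QuotientGroup.mk (x * a * x⁻¹) : L ⧸ ZZ hm) = QuotientGroup.mk a := by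
          rw [QuotientGroup.mk_mul, QuotientGroup.mk_inv, mul_inv_eq_iff_eq_mul]
          exact hx
        have h3 := conj_pm hm 2 ha5 ha5 h2
        rw [mul_inv_eq_iff_eq_mul] at h3
        have h4 : (x : M5ˣ) * gA = gA * x := congrArg Subtype.val h3
        obtain ⟨k, hk | hk⟩ := F3 x x.2 h4
        · have h5 : x = a ^ k := Subtype.ext hk
          rw [h5]
          exact Subgroup.npow_mem_zpowers b k
        · have h5 : x = nn hm * a ^ k := by
            apply Subtype.ext
            rw [nn_mul, hk]; rfl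
          have h6 : (QuotientGroup.mk x : L ⧸ ZZ hm) = QuotientGroup.mk (a ^ k) := by
            rw [mk_eq]
            right; exact h5
          rw [h6]
          exact Subgroup.npow_mem_zpowers b k
    · intro x k hx
      induction x using QuotientGroup.induction_on with
      | H x =>
        have h2 : (QuotientGroup.mk (x * a * x⁻¹) : L ⧸ ZZ hm) = QuotientGroup.mk (a ^ k) := hx
        have h3 := conj_pm hm 2 ha5 (by rw [← pow_mul, mul_comm, pow_mul, show 2 * 2 + 1 = 5 by norm_num, ha5, one_pow]) h2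
        have h4 : (x : M5ˣ) * gA * (x : M5ˣ)⁻¹ = gA ^ k := congrArg Subtype.val h3
        rcases F4 x x.2 k h4 with h5 | h5
        · left
          have h6 : a ^ k = a := Subtype.ext h5
          change (QuotientGroup.mk (x * a * x⁻¹) : L ⧸ ZZ hm) = QuotientGroup.mk a
          rw [h3, h6]
        · right
          have h6 : a ^ k = a⁻¹ := Subtype.ext h5
          change (QuotientGroup.mk (x * a * x⁻¹) : L ⧸ ZZ hm) = QuotientGroup.mk a⁻¹
          rw [h3, h6]
    · rw [eq_top_iff]
      have h2 : (Subgroup.closure {x : L | x ^ 5 = 1}).map (QuotientGroup.mk' (ZZ hm)) = ⊤ := by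
        rw [hgenL]
        exact Subgroup.map_top_of_surjective _ (QuotientGroup.mk'_surjective _)
      rw [← h2, MonoidHom.map_closure]
      apply Subgroup.closure_mono
      rintro _ ⟨x, hx, rfl⟩
      have hx' : x ^ 5 = 1 := hx
      change (QuotientGroup.mk' _ x) ^ 5 = 1
      rw [← map_pow, hx', map_one]
    · intro h
      apply hL.card
      rw [hcard]
      exact h.mul_right 2
  have hd : Nat.card (L ⧸ ZZ hm) ∣ 37440 := by
    rw [hcard] at F5
    exact Nat.dvd_of_mul_dvd_mul_right (k := 2) (by norm_num) (by norm_num at F5 ⊢; exact F5)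
  have hne : Nat.card (L ⧸ ZZ hm) ≠ 5 := by
    intro h5
    apply hL.irr1
    intro g hg
    have hz : zpowers b = ⊤ := by
      apply Subgroup.eq_top_of_card_eq
      rw [Nat.card_zpowers, H.ord, h5]
    have hg' : (QuotientGroup.mk (⟨g, hg⟩ : L) : L ⧸ ZZ hm) ∈ zpowers b := by rw [hz]; exact Subgroup.mem_top _
    rw [← (isOfFinOrder_of_finite b).mem_powers_iff_mem_zpowers] at hg'
    obtain ⟨k, hk⟩ := hg'
    have hk5 : b ^ (k % 5) = b ^ k := by
      have := pow_mod_orderOf b k
      rw [H.ord] at this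
      exact this
    have hk2 : (QuotientGroup.mk (⟨g, hg⟩ : L) : L ⧸ ZZ hm) = QuotientGroup.mk (a ^ (k % 5)) := by
      have hk' : b ^ k = (QuotientGroup.mk (⟨g, hg⟩ : L) : L ⧸ ZZ hm) := hk
      rw [← hk', ← hk5]; rfl
    have hk4 : k % 5 < 5 := Nat.mod_lt _ (by norm_num)
    have key : ∀ j < 5, (mA ^ j) 1 0 = 0 ∧ (mA ^ j) 2 0 = 0 ∧ (mA ^ j) 3 0 = 0 := by decide +kernel
    have hak : ∀ j : ℕ, (((a ^ j : L) : M5ˣ) : M5) = mA ^ j := by
      intro j
      rw [Subgroup.coe_pow, Units.val_pow_eq_pow_val]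
      rfl
    rcases (mk_eq hm _ _).mp hk2 with h6 | h6
    · have h7 : (g : M5) = mA ^ (k % 5) := by
        rw [← hak, ← h6]
      rw [h7]
      exact key _ hk4
    · have h7 : (g : M5) = - mA ^ (k % 5) := by
        rw [← hak]
        have h8 : g = - ((a ^ (k % 5) : L) : M5ˣ) := by
          rw [← nn_mul hm, ← h6]
        rw [h8, Units.val_neg]
      rw [h7]
      obtain ⟨e1, e2, e3⟩ := key _ hk4
      refine ⟨?_, ?_, ?_⟩
      · rw [Matrix.neg_apply, e1, neg_zero]
      · rw [Matrix.neg_apply, e2, neg_zero]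
      · rw [Matrix.neg_apply, e3, neg_zero]
  -- lifting elements of order 13
  have hlift : ∀ z : L ⧸ ZZ hm, orderOf z = 13 → ∃ t : L, QuotientGroup.mk t = z ∧ t ^ 13 = 1 ∧
      ((t : M5ˣ) : M5) ^ 13 = 1 ∧ ((t : M5ˣ) : M5) ≠ 1 := by
    intro z hz
    obtain ⟨t, ht1, ht2⟩ := lift_odd hm 6 z (by
      rw [show 2 * 6 + 1 = 13 by norm_num, ← hz]; exact pow_orderOf_eq_one z)
    refine ⟨t, ht1, ht2, ?_, ?_⟩
    · have := congrArg (fun x : L => ((x : M5ˣ) : M5)) ht2
      simpa using this
    · intro h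
      have h2 : t = 1 := Subtype.ext (Units.ext h)
      rw [← ht1, h2] at hz
      have h3 : orderOf (1 : L ⧸ ZZ hm) = 13 := hz
      rw [orderOf_one] at h3
      omega
  have hcomm : ∀ (z c : L ⧸ ZZ hm) (t s : L), QuotientGroup.mk t = z → QuotientGroup.mk s = c → t ^ 13 = 1 →
      c * z = z * c → ((s : M5ˣ) : M5) * ((t : M5ˣ) : M5) = ((t : M5ˣ) : M5) * ((s : M5ˣ) : M5) := by
    rintro z c t s rfl rfl ht hcz
    have h2 : (QuotientGroup.mk (s * t * s⁻¹) : L ⧸ ZZ hm) = QuotientGroup.mk t := by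
      rw [QuotientGroup.mk_mul, QuotientGroup.mk_inv, mul_inv_eq_iff_eq_mul]
      exact hcz
    have h3 := conj_pm hm 6 ht ht h2
    rw [mul_inv_eq_iff_eq_mul] at h3
    have := congrArg (fun x : L => ((x : M5ˣ) : M5)) h3
    simpa using this
  have hone : ∀ s : L, ((s : M5ˣ) : M5) = 1 ∨ ((s : M5ˣ) : M5) = -1 → (QuotientGroup.mk s : L ⧸ ZZ hm) = 1 := by
    rintro s (h | h)
    · have h2 : s = 1 := Subtype.ext (Units.ext h)
      rw [h2]; rfl
    · have h2 : s = nn hm := Subtype.ext (Units.ext h)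
      change (QuotientGroup.mk s : L ⧸ ZZ hm) = QuotientGroup.mk 1
      rw [mk_eq, h2]
      right; rw [mul_one]
  have C2 : ∀ z c : L ⧸ ZZ hm, orderOf z = 13 → c * z = z * c → c ^ 2 = 1 → c = 1 := by
    intro z c hz hcz hc2
    obtain ⟨t, ht, ht13, ht13', ht1⟩ := hlift z hz
    induction c using QuotientGroup.induction_on with
    | H s =>
      have h2 := hcomm z _ t s ht rfl ht13 hcz
      have h3 : (QuotientGroup.mk (s ^ 2) : L ⧸ ZZ hm) = QuotientGroup.mk 1 := hc2
      apply hone
      refine c2 ht13' ht1 h2 (hL.iso s s.2) ?_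
      rcases (mk_eq hm _ _).mp h3 with h4 | h4
      · left
        have := congrArg (fun x : L => ((x : M5ˣ) : M5)) h4
        simpa using this
      · right
        rw [mul_one] at h4
        have := congrArg (fun x : L => ((x : M5ˣ) : M5)) h4
        simpa [nn] using this
  have C3 : ∀ z c : L ⧸ ZZ hm, orderOf z = 13 → c * z = z * c → c ^ 3 = 1 → c = 1 := by
    intro z c hz hcz hc3
    obtain ⟨t, ht, ht13, ht13', ht1⟩ := hlift z hz
    obtain ⟨s, hs, hs3⟩ := lift_odd hm 1 c hc3
    have h2 := hcomm z c t s ht hs ht13 hcz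
    rw [← hs]
    apply hone
    left
    refine c3 ht13' ht1 h2 (hL.iso t t.2) (hL.iso s s.2) ?_
    have := congrArg (fun x : L => ((x : M5ˣ) : M5)) hs3
    simpa using this
  have N3 : ∀ z x : L ⧸ ZZ hm, orderOf z = 13 → x * z * x⁻¹ ≠ z ^ 3 := by
    intro z x hz hxz
    obtain ⟨t, ht, ht13, ht13', ht1⟩ := hlift z hz
    induction x using QuotientGroup.induction_on with
    | H s =>
      have h2 : (QuotientGroup.mk (s * t * s⁻¹) : L ⧸ ZZ hm) = QuotientGroup.mk (t ^ 3) := by
        rw [QuotientGroup.mk_mul, QuotientGroup.mk_inv, QuotientGroup.mk_mul, QuotientGroup.mk_pow, ht]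
        exact hxz
      have h3 := conj_pm hm 6 ht13 (by rw [← pow_mul, mul_comm, pow_mul, show 2 * 6 + 1 = 13 by norm_num, ht13, one_pow]) h2
      refine n3 (z := ((t : M5ˣ) : M5)) (x := ((s : M5ˣ) : M5)) (y := (((s⁻¹ : L) : M5ˣ) : M5)) ht13' ht1 ?_ ?_
      · have := congrArg (fun x : L => ((x : M5ˣ) : M5)) (mul_inv_cancel s)
        exact this
      · have := congrArg (fun x : L => ((x : M5ˣ) : M5)) h3
        exact this
  rcases H.main hd hne C2 C3 N3 with ⟨N, hN, hN16, hNc, hN2, hQ⟩ | hQ | hQ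
  · left
    have hπ : Function.Surjective (QuotientGroup.mk' (ZZ hm)) := QuotientGroup.mk'_surjective _
    have hidx : N.index * 16 = Nat.card (L ⧸ ZZ hm) := by
      rw [← hN16, mul_comm]; exact N.card_mul_index
    have hQpos : 0 < Nat.card (L ⧸ ZZ hm) := Nat.card_pos
    have hcomap : ∀ ψ : L →* L ⧸ ZZ hm, Function.Surjective ψ → Nat.card (N.comap ψ) = 32 := by
      intro ψ hψ
      have h2 := (N.comap ψ).card_mul_index
      rw [Subgroup.index_comap_of_surjective N hψ, hcard, ← hidx] at h2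
      have hNi : 0 < N.index := by
        rcases Nat.eq_zero_or_pos N.index with h | h
        · rw [h] at hidx; omega
        · exact h
      have h3 : Nat.card (N.comap ψ) * N.index = 32 * N.index := by rw [h2]; ring
      exact Nat.eq_of_mul_eq_mul_right hNi h3
    have hR : ∀ g : M5ˣ, g ∈ (N.comap (QuotientGroup.mk' (ZZ hm))).map L.subtype ↔
        ∃ hg : g ∈ L, (QuotientGroup.mk (⟨g, hg⟩ : L) : L ⧸ ZZ hm) ∈ N := by
      intro g
      constructor
      · rintro ⟨y, hy, rfl⟩
        exact ⟨y.2, hy⟩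
      · rintro ⟨hg, h⟩
        exact ⟨⟨g, hg⟩, h, rfl⟩
    have hmk1 : ∀ s : L, (QuotientGroup.mk s : L ⧸ ZZ hm) = 1 → (s : M5ˣ) = 1 ∨ (s : M5ˣ) = -1 := by
      intro s hs
      rcases (mk_eq hm s 1).mp hs with h | h
      · left; rw [h]; rfl
      · right; rw [h, mul_one]; rfl
    refine ⟨(N.comap (QuotientGroup.mk' (ZZ hm))).map L.subtype, ?_, ?_, ?_, ?_, ?_, ?_, ?_, ?_, ?_⟩
    · intro g hg
      obtain ⟨h, -⟩ := (hR g).mp hg
      exact h
    · intro g hg r hr
      obtain ⟨hrL, hr⟩ := (hR r).mp hr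
      refine (hR _).mpr ⟨L.mul_mem (L.mul_mem hg hrL) (L.inv_mem hg), ?_⟩
      exact hN.conj_mem _ hr (QuotientGroup.mk (⟨g, hg⟩ : L))
    · rw [Subgroup.card_map_of_injective (Subgroup.subtype_injective L)]
      exact hcomap _ hπ
    · refine (hR _).mpr ⟨hm, ?_⟩
      have : (QuotientGroup.mk (⟨-1, hm⟩ : L) : L ⧸ ZZ hm) = 1 := by
        change (QuotientGroup.mk (nn hm) : L ⧸ ZZ hm) = QuotientGroup.mk 1
        rw [mk_eq]; right; rw [mul_one]
      rw [this]; exact N.one_mem
    · intro r hr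
      obtain ⟨hrL, hr⟩ := (hR r).mp hr
      exact hmk1 ((⟨r, hrL⟩ : L) ^ 2) (hN2 _ hr)
    · intro r hr s hs
      obtain ⟨hrL, hr⟩ := (hR r).mp hr
      obtain ⟨hsL, hs⟩ := (hR s).mp hs
      have h2 : (QuotientGroup.mk ((⟨r, hrL⟩ : L) * ⟨s, hsL⟩) : L ⧸ ZZ hm) =
          QuotientGroup.mk ((⟨s, hsL⟩ : L) * ⟨r, hrL⟩) := hNc _ hr _ hs
      rcases (mk_eq hm _ _).mp h2 with h | h
      · left; exact congrArg Subtype.val h
      · right
        have h3 := congrArg Subtype.val h
        rw [nn_mul] at h3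
        exact h3
    · intro r hr hra
      obtain ⟨hrL, hr⟩ := (hR r).mp hr
      apply hmk1 ⟨r, hrL⟩
      refine H.meet (P := N) (by rw [hN16]; norm_num) hr (H.cent _ ?_)
      have : (⟨r, hrL⟩ : L) * a = a * ⟨r, hrL⟩ := Subtype.ext hra
      exact congrArg (QuotientGroup.mk (s := ZZ hm)) this
    · -- invariance under `gh2`
      let θ : L →* L :=
        { toFun := fun g => ⟨gh2 * g * gh2⁻¹, hL.h2 g g.2⟩
          map_one' := by apply Subtype.ext; simp
          map_mul' := by
            intro x y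
            apply Subtype.ext
            change gh2 * ((x * y : L) : M5ˣ) * gh2⁻¹ = (gh2 * x * gh2⁻¹) * (gh2 * y * gh2⁻¹)
            rw [Subgroup.coe_mul]; group }
      have hθi : Function.Injective θ := by
        intro x y hxy
        have h2 : gh2 * (x : M5ˣ) * gh2⁻¹ = gh2 * y * gh2⁻¹ := congrArg Subtype.val hxy
        apply Subtype.ext
        exact mul_left_cancel (mul_right_cancel h2)
      have hθs : Function.Surjective θ := Finite.injective_iff_surjective.mp hθi
      have hψ : Function.Surjective ((QuotientGroup.mk' (ZZ hm)).comp θ) := hπ.comp hθs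
      have hK32 := hcomap _ hψ
      set K := N.comap ((QuotientGroup.mk' (ZZ hm)).comp θ) with hK
      have hKn : K.Normal := hN.comap _
      have hkerK : (QuotientGroup.mk' (ZZ hm)).ker ≤ K := by
        rw [QuotientGroup.ker_mk']
        intro x hx
        rw [hK, Subgroup.mem_comap]
        have : ((QuotientGroup.mk' (ZZ hm)).comp θ) x = 1 := by
          rw [mem_ZZ] at hx
          rcases hx with rfl | rfl
          · exact map_one _
          · have h2 : θ (nn hm) = nn hm := by
              apply Subtype.ext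
              change gh2 * (-1 : M5ˣ) * gh2⁻¹ = -1
              rw [mul_neg_one, neg_mul, mul_inv_cancel]
            rw [MonoidHom.comp_apply, h2]
            change (QuotientGroup.mk (nn hm) : L ⧸ ZZ hm) = QuotientGroup.mk 1
            rw [mk_eq]; right; rw [mul_one]
        rw [this]; exact N.one_mem
      have hMn : (K.map (QuotientGroup.mk' (ZZ hm))).Normal := hKn.map _ hπ
      have hM16 : Nat.card (K.map (QuotientGroup.mk' (ZZ hm))) = 16 := by
        have h2 := Subgroup.index_map_eq K hπ hkerK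
        have h3 := K.card_mul_index
        have h4 := (K.map (QuotientGroup.mk' (ZZ hm))).card_mul_index
        rw [h2] at h4
        rw [hK32, hcard, ← h4] at h3
        have hKi : 0 < K.index := by
          rcases Nat.eq_zero_or_pos K.index with h | h
          · rw [h] at h4; omega
          · exact h
        have h5 : Nat.card (K.map (QuotientGroup.mk' (ZZ hm))) * K.index = 16 * K.index := by
          have : 2 * (Nat.card (K.map (QuotientGroup.mk' (ZZ hm))) * K.index) = 2 * (16 * K.index) := by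
            rw [mul_comm 2, ← h3]; ring
          omega
        exact Nat.eq_of_mul_eq_mul_right hKi h5
      have hMN := H.uniq hd hM16 hN16
      intro g hg hgR
      obtain ⟨hg2, hgN⟩ := (hR _).mp hgR
      refine (hR g).mpr ⟨hg, ?_⟩
      rw [← hMN]
      refine ⟨⟨g, hg⟩, ?_, rfl⟩
      rw [hK]
      exact hgN
    · rcases hQ with h | h
      · left; rw [hcard, h]
      · right; rw [hcard, h]
  · right; left
    rw [hcard, hQ]
  · right; right
    rw [hcard, hQ]

end Cfsg.Agent.H689.Q5
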