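import Mathlib
import Cfsg.Agent.S0496

/-!
# Task 5260 [Q5-M3] (S5211, block q = 5): the abstract group theory (helper689)

A finite group with a self centralizing subgroup of order 5 whose normalizer has order at most 10.
-/

set_option autoImplicit false

namespace Cfsg.Agent.H689.Q5

open Subgroup
open scoped Pointwise

/-- fixed points of a map of order 5 -/
theorem card_mod {α : Type*} [Finite α] (f : α → α) (hf : ∀ x, f (f (f (f (f x)))) = x) :
    Nat.card α % 5 = Nat.card {x // f x = x} % 5 := by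
  classical
  have := Fintype.ofFinite α
  let F : Function.End α := f
  have h : F ^ 5 ^ 1 = 1 := by
    funext x
    exact hf x
  have : Fact (Nat.Prime 5) := ⟨by norm_num⟩
  have := Equiv.Perm.card_fixedPoints_modEq (p := 5) (n := 1) h
  rw [Nat.card_eq_fintype_card, Nat.card_eq_fintype_card]
  rw [Nat.ModEq] at this
  rw [this]
  congr 1

/-- the situation -/
structure HQ {Q : Type*} [Group Q] (a : Q) : Prop where
  ord : orderOf a = 5
  cent : ∀ x : Q, x * a = a * x → x ∈ zpowers a
  norm : ∀ (x : Q) (k : ℕ), x * a * x⁻¹ = a ^ k → x * a * x⁻¹ = a ∨ x * a * x⁻¹ = a⁻¹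
  gen : closure {x : Q | x ^ 5 = 1} = ⊤
  card : ¬ 25 ∣ Nat.card Q

variable {Q : Type*} [Group Q] {a : Q}

theorem HQ.a5 (H : HQ a) : a ^ 5 = 1 := by rw [← H.ord]; exact pow_orderOf_eq_one a

theorem HQ.ne (H : HQ a) : a ≠ 1 := by
  intro h
  have := H.ord
  rw [h, orderOf_one] at this
  omega

/-- a subgroup of order prime to 5 meets `⟨a⟩` trivially -/
theorem HQ.meet (H : HQ a) {P : Subgroup Q} (h5 : ¬ 5 ∣ Nat.card P) {x : Q} (hx : x ∈ P) (hxa : x ∈ zpowers a) :
    x = 1 := by
  by_contra hne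
  have h1 : orderOf x ∣ 5 := by
    rw [← H.ord, ← Nat.card_zpowers a]
    exact (Subgroup.orderOf_dvd_natCard _ hxa)
  have h2 : orderOf x = 5 := ((Nat.dvd_prime (by norm_num)).mp h1).resolve_left (by simpa using hne)
  exact h5 (by rw [← h2]; exact Subgroup.orderOf_dvd_natCard _ hx)


variable [Finite Q]

/-- a subgroup of order prime to 5 normalized by `a` has order 1 modulo 5 -/
theorem HQ.mod_one (H : HQ a) {P : Subgroup Q} (h5 : ¬ 5 ∣ Nat.card P) (hn : ∀ x ∈ P, a * x * a⁻¹ ∈ P) :
    Nat.card P % 5 = 1 := by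
  have h := card_mod (fun x : P => (⟨a * x * a⁻¹, hn x x.2⟩ : P)) (by
    intro x
    apply Subtype.ext
    have h5' := H.a5
    have : a⁻¹ ^ 5 = 1 := by rw [inv_pow, h5', inv_one]
    calc _ = a ^ 5 * (x : Q) * a⁻¹ ^ 5 := by simp only [pow_succ, pow_zero, one_mul, mul_assoc]
      _ = x := by rw [h5', this]; group)
  rw [h]
  have : Nat.card {x : P // (⟨a * x * a⁻¹, hn x x.2⟩ : P) = x} = 1 := by
    rw [Nat.card_eq_one_iff_unique]
    constructor
    · constructor
      rintro ⟨x, hx⟩ ⟨y, hy⟩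
      have key : ∀ z : P, (⟨a * z * a⁻¹, hn z z.2⟩ : P) = z → (z : Q) = 1 := by
        intro z hz
        have hz' : a * (z : Q) * a⁻¹ = z := congrArg Subtype.val hz
        refine H.meet h5 z.2 (H.cent _ ?_)
        rw [mul_inv_eq_iff_eq_mul] at hz'
        exact hz'.symm
      apply Subtype.ext; apply Subtype.ext
      rw [key x hx, key y hy]
    · exact ⟨⟨1, by apply Subtype.ext; simp⟩⟩
  rw [this]

/-- `a` normalizes a Sylow subgroup of each normal subgroup of order prime to 5 -/
theorem HQ.syl (H : HQ a) {N : Subgroup Q} [N.Normal] (h5 : ¬ 5 ∣ Nat.card N) (r : ℕ) [Fact r.Prime] :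
    ∃ i : ℕ, r ^ i ∣ Nat.card N ∧ ¬ r ^ (i + 1) ∣ Nat.card N ∧ r ^ i % 5 = 1 := by
  let φ : MulAut N := MulAut.conjNormal a
  have hφ5 : φ ^ 5 = 1 := by
    change (MulAut.conjNormal a : MulAut N) ^ 5 = 1
    rw [← map_pow, H.a5, map_one]
  have h := card_mod (fun P : Sylow r N => φ • P) (by
    intro P
    calc _ = (φ ^ 5) • P := by simp only [pow_succ, pow_zero, one_mul, mul_smul]
      _ = P := by rw [hφ5, one_smul])
  have hd : Nat.card (Sylow r N) ∣ Nat.card N := by
    have := (default : Sylow r N).card_dvd_index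
    exact this.trans (Subgroup.index_dvd_card _)
  have hne : Nat.card {P : Sylow r N // φ • P = P} ≠ 0 := by
    intro h0
    rw [h0] at h
    exact h5 ((Nat.dvd_of_mod_eq_zero h).trans hd)
  have : Nonempty {P : Sylow r N // φ • P = P} := (Nat.card_ne_zero.mp hne).1
  obtain ⟨P, hP⟩ := (inferInstance : Nonempty {P : Sylow r N // φ • P = P})
  obtain ⟨i, hi⟩ := IsPGroup.iff_card.mp P.2
  refine ⟨i, ?_, ?_, ?_⟩
  · rw [← hi]; exact Subgroup.card_subgroup_dvd_card _
  · intro hcon
    have h1 := P.card_eq_multiplicity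
    rw [hi] at h1
    have h2 : i = (Nat.card N).factorization r := Nat.pow_right_injective (Fact.out : r.Prime).two_le h1
    rw [h2] at hcon
    exact (Nat.pow_succ_factorization_not_dvd (Nat.card_pos.ne') Fact.out) hcon
  · have hcard : Nat.card ((P : Subgroup N).map N.subtype) = r ^ i := by
      rw [Subgroup.card_map_of_injective (Subgroup.subtype_injective N)]
      exact hi
    rw [← hcard]
    refine H.mod_one ?_ ?_
    · intro hcon
      apply h5
      refine hcon.trans ?_
      rw [Subgroup.card_map_of_injective (Subgroup.subtype_injective N)]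
      exact Subgroup.card_subgroup_dvd_card _
    · rintro _ ⟨y, hy, rfl⟩
      refine ⟨φ y, ?_, ?_⟩
      · have : φ y ∈ φ • (P : Subgroup N) := Subgroup.smul_mem_pointwise_smul y φ _ hy
        rw [← Sylow.pointwise_smul_def, hP] at this
        exact this
      · rfl

theorem arith1 : ∀ d ∈ Nat.divisors 7488, (∀ i ≤ 6, 2 ^ i ∣ d → ¬ 2 ^ (i + 1) ∣ d → 2 ^ i % 5 = 1) →
    (∀ i ≤ 2, 3 ^ i ∣ d → ¬ 3 ^ (i + 1) ∣ d → 3 ^ i % 5 = 1) →
    (∀ i ≤ 1, 13 ^ i ∣ d → ¬ 13 ^ (i + 1) ∣ d → 13 ^ i % 5 = 1) → d = 1 ∨ d = 16 := by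
  decide +kernel

theorem exp_unique {r i j d : ℕ} (h1 : r ^ i ∣ d) (h2 : ¬ r ^ (i + 1) ∣ d) (h3 : r ^ j ∣ d)
    (h4 : ¬ r ^ (j + 1) ∣ d) : i = j := by
  rcases Nat.lt_trichotomy i j with h | h | h
  · exact absurd ((pow_dvd_pow r (show i + 1 ≤ j by omega)).trans h3) h2
  · exact h
  · exact absurd ((pow_dvd_pow r (show j + 1 ≤ i by omega)).trans h1) h4

/-- a normal subgroup of order prime to 5 has order 1 or 16 -/
theorem HQ.small (H : HQ a) (hd : Nat.card Q ∣ 37440) {N : Subgroup Q} [N.Normal] (h5 : ¬ 5 ∣ Nat.card N) :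
    Nat.card N = 1 ∨ Nat.card N = 16 := by
  have h1 : Nat.card N ∣ 5 * 7488 := (Subgroup.card_subgroup_dvd_card N).trans hd
  have h2 : Nat.card N ∣ 7488 := by
    refine Nat.Coprime.dvd_of_dvd_mul_left ?_ h1
    rw [Nat.coprime_comm]
    exact (Nat.Prime.coprime_iff_not_dvd (by norm_num)).mpr h5
  have key : ∀ r : ℕ, r.Prime → ∀ i : ℕ, r ^ i ∣ Nat.card N → ¬ r ^ (i + 1) ∣ Nat.card N → r ^ i % 5 = 1 := by
    intro r hr i hi1 hi2
    have : Fact r.Prime := ⟨hr⟩
    obtain ⟨j, hj1, hj2, hj3⟩ := H.syl h5 r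
    rw [exp_unique hi1 hi2 hj1 hj2]
    exact hj3
  exact arith1 _ (Nat.mem_divisors.mpr ⟨h2, by norm_num⟩) (fun i _ => key 2 (by norm_num) i)
    (fun i _ => key 3 (by norm_num) i) (fun i _ => key 13 (by norm_num) i)

/-- two normal subgroups of order 16 are equal -/
theorem HQ.uniq (H : HQ a) (hd : Nat.card Q ∣ 37440) {N M : Subgroup Q} [N.Normal] [M.Normal]
    (hN : Nat.card N = 16) (hM : Nat.card M = 16) : N = M := by
  have h5 : ¬ 5 ∣ Nat.card ↥(N ⊓ M) := by
    intro h
    have := h.trans (Subgroup.card_dvd_of_le (inf_le_left : N ⊓ M ≤ N))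
    rw [hN] at this
    omega
  rcases H.small hd h5 with h | h
  · exfalso
    have hbot : N ⊓ M = ⊥ := Subgroup.card_eq_one.mp h
    have h256 : Nat.card ↥(N ⊔ M) = 256 := by
      have h1 := relIndex_mul_relIndex ⊥ N (N ⊔ M) bot_le le_sup_left
      rw [relIndex_sup_left, ← inf_relIndex_right N M, hbot] at h1
      simp only [relIndex_bot_left] at h1
      rw [← h1, hN, hM]
    have := (Subgroup.card_subgroup_dvd_card (N ⊔ M)).trans hd
    rw [h256] at this
    omega
  · have h1 : N ⊓ M = N := Subgroup.eq_of_le_of_card_ge inf_le_left (by rw [h, hN])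
    have h2 : N ⊓ M = M := Subgroup.eq_of_le_of_card_ge inf_le_right (by rw [h, hM])
    rw [← h1]; exact h2

omit [Finite Q] in
/-- powers of `a` other than 1 have the same centralizer -/
theorem HQ.cent_pow (H : HQ a) {k : ℕ} (hk : a ^ k ≠ 1) {x : Q} (hx : x * a ^ k = a ^ k * x) : x ∈ zpowers a := by
  apply H.cent
  have hk5 : Nat.Coprime k 5 := by
    rw [Nat.coprime_comm, Nat.Prime.coprime_iff_not_dvd (by norm_num)]
    rintro ⟨m, rfl⟩
    exact hk (by rw [pow_mul, H.a5, one_pow])
  obtain ⟨m, hm⟩ : ∃ m : ℕ, (a ^ k) ^ m = a := by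
    obtain ⟨m, -, hm⟩ := Nat.exists_mul_mod_eq_one_of_coprime hk5 (by norm_num)
    refine ⟨m, ?_⟩
    rw [← pow_mul, ← Nat.div_add_mod (k * m) 5, hm, pow_add, pow_mul, H.a5, one_pow, one_mul, pow_one]
  have : Commute x (a ^ k) := hx
  rw [← hm]
  exact (this.pow_right m).eq

/-- all elements of a coset of a normal subgroup of order prime to 5 are conjugate -/
theorem HQ.coset (H : HQ a) {N : Subgroup Q} [hN : N.Normal] (h5 : ¬ 5 ∣ Nat.card N) {k : ℕ} (hk : a ^ k ≠ 1)
    {m : Q} (hm : m ∈ N) : ∃ n ∈ N, m * a ^ k = n * a ^ k * n⁻¹ := by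
  have hmem : ∀ n : N, (n : Q) * a ^ k * (n : Q)⁻¹ * (a ^ k)⁻¹ ∈ N := by
    intro n
    have h1 : a ^ k * (n : Q)⁻¹ * (a ^ k)⁻¹ ∈ N := hN.conj_mem _ (N.inv_mem n.2) _
    have h2 : (n : Q) * (a ^ k * (n : Q)⁻¹ * (a ^ k)⁻¹) ∈ N := N.mul_mem n.2 h1
    simpa only [mul_assoc] using h2
  have hinj : Function.Injective (fun n : N => (⟨(n : Q) * a ^ k * (n : Q)⁻¹ * (a ^ k)⁻¹, hmem n⟩ : N)) := by
    intro x y hxy
    have h1 : (x : Q) * a ^ k * (x : Q)⁻¹ * (a ^ k)⁻¹ = (y : Q) * a ^ k * (y : Q)⁻¹ * (a ^ k)⁻¹ :=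
      congrArg Subtype.val hxy
    have h2 := mul_right_cancel h1
    have h3 : ((y : Q)⁻¹ * x) * a ^ k = a ^ k * ((y : Q)⁻¹ * x) := by
      rw [mul_inv_eq_iff_eq_mul] at h2
      calc ((y : Q)⁻¹ * x) * a ^ k = (y : Q)⁻¹ * (x * a ^ k) := by group
        _ = (y : Q)⁻¹ * (y * a ^ k * (y : Q)⁻¹ * x) := by rw [h2]
        _ = a ^ k * ((y : Q)⁻¹ * x) := by group
    have h4 := H.meet h5 (N.mul_mem (N.inv_mem y.2) x.2) (H.cent_pow hk h3)
    apply Subtype.ext
    exact (inv_mul_eq_one.mp h4).symm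
  obtain ⟨n, hn⟩ := (Finite.injective_iff_surjective.mp hinj) ⟨m, hm⟩
  refine ⟨n, n.2, ?_⟩
  have h1 : (n : Q) * a ^ k * (n : Q)⁻¹ * (a ^ k)⁻¹ = m := congrArg Subtype.val hn
  rw [← h1]; group

/-- the situation passes to the quotient by a normal subgroup of order prime to 5 -/
theorem HQ.quot (H : HQ a) (N : Subgroup Q) [hN : N.Normal] (h5 : ¬ 5 ∣ Nat.card N) :
    HQ (QuotientGroup.mk a : Q ⧸ N) := by
  have hmk : ∀ x y : Q, (QuotientGroup.mk x : Q ⧸ N) = QuotientGroup.mk y → ∃ m ∈ N, x = m * y := by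
    intro x y h
    rw [eq_comm, QuotientGroup.eq] at h
    refine ⟨x * y⁻¹, ?_, by group⟩
    have := hN.conj_mem _ h y
    simpa only [mul_assoc, mul_inv_cancel_left] using this
  have hak : ∀ k : ℕ, (QuotientGroup.mk (a ^ k) : Q ⧸ N) = 1 → a ^ k = 1 := by
    intro k h
    exact H.meet h5 ((QuotientGroup.eq_one_iff _).mp h) (Subgroup.npow_mem_zpowers a k)
  have hne : (QuotientGroup.mk a : Q ⧸ N) ≠ 1 := by
    intro h
    have := hak 1 (by rw [pow_one]; exact h)
    rw [pow_one] at this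
    exact H.ne this
  have hz : ∀ x : Q, x ∈ zpowers a → (QuotientGroup.mk x : Q ⧸ N) ∈ zpowers (QuotientGroup.mk a : Q ⧸ N) := by
    rintro _ ⟨k, rfl⟩
    exact ⟨k, rfl⟩
  refine ⟨?_, ?_, ?_, ?_, ?_⟩
  · have h1 : (QuotientGroup.mk a : Q ⧸ N) ^ 5 = 1 := by
      rw [← QuotientGroup.mk_pow, H.a5]; rfl
    have : Fact (Nat.Prime 5) := ⟨by norm_num⟩
    exact orderOf_eq_prime h1 hne
  · intro x hx
    induction x using QuotientGroup.induction_on with
    | H x =>
      rw [← QuotientGroup.mk_mul, ← QuotientGroup.mk_mul] at hx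
      obtain ⟨m, hm, hxm⟩ := hmk _ _ hx
      -- x a = m a x
      have h1 : a ^ 1 ≠ 1 := by rw [pow_one]; exact H.ne
      obtain ⟨n, hn, hn2⟩ := H.coset h5 h1 hm
      rw [pow_one] at hn2
      have h2 : (n⁻¹ * x) * a = a * (n⁻¹ * x) := by
        calc (n⁻¹ * x) * a = n⁻¹ * (x * a) := by group
          _ = n⁻¹ * (m * a) * x := by rw [hxm]; group
          _ = a * (n⁻¹ * x) := by rw [hn2]; group
      have h3 := hz _ (H.cent _ h2)
      have h4 : (QuotientGroup.mk (n⁻¹ * x) : Q ⧸ N) = QuotientGroup.mk x := by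
        rw [QuotientGroup.mk_mul, (QuotientGroup.eq_one_iff _).mpr (N.inv_mem hn), one_mul]
      rw [h4] at h3
      exact h3
  · intro x k hx
    induction x using QuotientGroup.induction_on with
    | H x =>
      rw [← QuotientGroup.mk_mul, ← QuotientGroup.mk_inv, ← QuotientGroup.mk_mul, ← QuotientGroup.mk_pow] at hx
      obtain ⟨m, hm, hxm⟩ := hmk _ _ hx
      have h1 : a ^ k ≠ 1 := by
        intro h
        rw [h] at hx
        have h2 : (QuotientGroup.mk (x * a * x⁻¹) : Q ⧸ N) = 1 := hx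
        rw [QuotientGroup.mk_mul, QuotientGroup.mk_mul, QuotientGroup.mk_inv, mul_inv_eq_one] at h2
        exact hne (mul_eq_left.mp h2)
      obtain ⟨n, hn, hn2⟩ := H.coset h5 h1 hm
      have h2 : (n⁻¹ * x) * a * (n⁻¹ * x)⁻¹ = a ^ k := by
        calc (n⁻¹ * x) * a * (n⁻¹ * x)⁻¹ = n⁻¹ * (x * a * x⁻¹) * n := by group
          _ = a ^ k := by rw [hxm, hn2]; group
      have h3 := H.norm _ k h2
      rw [h2] at h3
      rcases h3 with h3 | h3
      · left
        rw [← QuotientGroup.mk_mul, ← QuotientGroup.mk_inv, ← QuotientGroup.mk_mul, hx, h3]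
      · right
        rw [← QuotientGroup.mk_mul, ← QuotientGroup.mk_inv, ← QuotientGroup.mk_mul, hx, h3]
        rfl
  · rw [eq_top_iff]
    have h1 : (closure {x : Q | x ^ 5 = 1}).map (QuotientGroup.mk' N) = ⊤ := by
      rw [H.gen]
      exact Subgroup.map_top_of_surjective _ (QuotientGroup.mk'_surjective N)
    rw [← h1, MonoidHom.map_closure]
    apply Subgroup.closure_mono
    rintro _ ⟨x, hx, rfl⟩
    change (QuotientGroup.mk' N x) ^ 5 = 1
    rw [← map_pow]
    rw [Set.mem_ofPred_eq] at hx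
    rw [hx, map_one]
  · intro h
    apply H.card
    rw [N.card_eq_card_quotient_mul_card_subgroup]
    exact h.mul_right _

/-- Sylow subgroups have order at most 5 -/
theorem HQ.card_syl (H : HQ a) [Fact (Nat.Prime 5)] (P : Sylow 5 Q) : Nat.card P ≤ 5 := by
  rw [P.card_eq_multiplicity]
  have : (Nat.card Q).factorization 5 < 2 := by
    by_contra hlt
    push Not at hlt
    apply H.card
    have := (Nat.Prime.pow_dvd_iff_le_factorization (p := 5) (by norm_num) (Nat.card_pos (α := Q)).ne').mpr hlt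
    exact this
  interval_cases (Nat.card Q).factorization 5 <;> norm_num

theorem HQ.sylow (H : HQ a) [Fact (Nat.Prime 5)] {y : Q} (hy : orderOf y = 5) :
    ∃ R : Sylow 5 Q, (R : Subgroup Q) = zpowers y := by
  have hpy : IsPGroup 5 (zpowers (y : Q)) := IsPGroup.of_card (n := 1) (by
    rw [Nat.card_zpowers, hy, pow_one])
  obtain ⟨R, hR⟩ := hpy.exists_le_sylow
  exact ⟨R, (Subgroup.eq_of_le_of_card_ge hR (by rw [Nat.card_zpowers, hy]; exact H.card_syl R)).symm⟩

/-- a normal subgroup of order divisible by 5 is everything -/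
theorem HQ.big (H : HQ a) {N : Subgroup Q} [hN : N.Normal] (h5 : 5 ∣ Nat.card N) : N = ⊤ := by
  have : Fact (Nat.Prime 5) := ⟨by norm_num⟩
  rw [eq_top_iff, ← H.gen, Subgroup.closure_le]
  intro x hx
  rw [Set.mem_ofPred_eq] at hx
  by_cases hx1 : x = 1
  · rw [hx1]; exact N.one_mem
  obtain ⟨P, hP⟩ := H.sylow (orderOf_eq_prime hx hx1)
  obtain ⟨y, hy⟩ := exists_prime_orderOf_dvd_card' 5 h5
  have hy2 : orderOf (y : Q) = 5 := by rw [Subgroup.orderOf_coe]; exact hy
  obtain ⟨R, hR⟩ := H.sylow hy2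
  have hRN : (R : Subgroup Q) ≤ N := by
    rw [hR, Subgroup.zpowers_le]
    exact y.2
  obtain ⟨g, hg⟩ := MulAction.exists_smul_eq Q R P
  have hPN : (P : Subgroup Q) ≤ N := by
    rw [← hg, Sylow.coe_subgroup_smul]
    rintro _ ⟨z, hz, rfl⟩
    exact hN.conj_mem _ (hRN hz) g
  exact hPN (hP ▸ mem_zpowers x)

/-- simplicity -/
theorem HQ.simple (H : HQ a) (h : ∀ N : Subgroup Q, N.Normal → ¬ 5 ∣ Nat.card N → N = ⊥) : IsSimpleGroup Q where
  exists_pair_ne := ⟨a, 1, H.ne⟩
  eq_bot_or_eq_top_of_normal := by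
    intro N hN
    by_cases h5 : 5 ∣ Nat.card N
    · right; exact H.big h5
    · left; exact h N hN h5

/-- the order of a simple group in the situation -/
theorem HQ.count (H : HQ a) [IsSimpleGroup Q] : Nat.card Q = 5 ∨ ∃ m, Nat.card Q = 10 * m ∧ m % 5 = 1 := by
  have : Fact (Nat.Prime 5) := ⟨by norm_num⟩
  obtain ⟨P, hP⟩ := H.sylow H.ord
  have haP : a ∈ (P : Subgroup Q) := by rw [hP]; exact mem_zpowers a
  have hcP : ∀ x ∈ (P : Subgroup Q), x * a * x⁻¹ = a := by
    intro x hx
    rw [hP] at hx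
    obtain ⟨k, rfl⟩ := hx
    change a ^ k * a * (a ^ k)⁻¹ = a
    group
  have hcard : Nat.card (P : Subgroup Q) = 5 := by rw [hP, Nat.card_zpowers, H.ord]
  have hnorm : ∀ x ∈ normalizer (P : Set Q), x * a * x⁻¹ = a ∨ x * a * x⁻¹ = a⁻¹ := by
    intro x hx
    have h1 : x * a * x⁻¹ ∈ (P : Subgroup Q) := (Subgroup.mem_normalizer_iff.mp hx a).mp haP
    rw [hP, ← (isOfFinOrder_of_finite a).mem_powers_iff_mem_zpowers] at h1
    obtain ⟨k, hk⟩ := h1
    exact H.norm x k hk.symm
  have hinv : a ≠ a⁻¹ := by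
    intro h
    have h2 : a ^ 2 = 1 := by rw [pow_two]; nth_rw 2 [h]; exact mul_inv_cancel a
    have := orderOf_dvd_of_pow_eq_one h2
    rw [H.ord] at this
    omega
  by_cases hall : ∀ x ∈ normalizer (P : Set Q), x * a * x⁻¹ = a
  · left
    have hle : normalizer (P : Set Q) ≤ centralizer (P : Set Q) := by
      intro x hx
      rw [Subgroup.mem_centralizer_iff]
      intro y hy
      have h1 := hall x hx
      have hy2 : y ∈ (P : Subgroup Q) := hy
      rw [hP] at hy2
      obtain ⟨k, rfl⟩ := hy2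
      change a ^ k * x = x * a ^ k
      have : Commute x a := by
        rw [mul_inv_eq_iff_eq_mul] at h1
        exact h1
      exact (this.zpow_right k).eq.symm
    have hc := MonoidHom.ker_transferSylow_isComplement' P hle
    have hn : (MonoidHom.transferSylow P hle).ker.Normal := inferInstance
    rcases hn.eq_bot_or_eq_top with h | h
    · have h1 := hc.card_mul_card
      rw [h] at h1
      rw [← h1, Subgroup.card_bot, one_mul, hcard]
    · exfalso
      have h1 := hc.disjoint
      rw [h, top_disjoint] at h1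
      have h2 : Nat.card (P : Subgroup Q) = 1 := by rw [h1, Subgroup.card_bot]
      omega
  · right
    push Not at hall
    obtain ⟨y, hy, hya⟩ := hall
    have hya' := (hnorm y hy).resolve_left hya
    have hmem : ∀ x : Q, x * a * x⁻¹ = a → x ∈ (P : Subgroup Q) := by
      intro x hx
      rw [hP]
      apply H.cent
      rw [mul_inv_eq_iff_eq_mul] at hx
      exact hx
    have hrel : (P : Subgroup Q).relIndex (normalizer (P : Set Q)) = 2 := by
      rw [relIndex_eq_two_iff]
      refine ⟨y, hy, ?_⟩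
      intro b hb
      rcases hnorm b hb with hb1 | hb1
      · right
        refine ⟨hmem b hb1, ?_⟩
        intro hby
        apply hya
        have := hcP _ ((P : Subgroup Q).mul_mem ((P : Subgroup Q).inv_mem (hmem b hb1)) hby)
        rw [inv_mul_cancel_left] at this
        exact this
      · left
        refine ⟨?_, ?_⟩
        · apply hmem
          have hb2 : b * a⁻¹ * b⁻¹ = a := by
            have := congrArg (·⁻¹) hb1
            simp only [mul_inv_rev, inv_inv] at this
            rw [mul_assoc]; exact this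
          calc b * y * a * (b * y)⁻¹ = b * (y * a * y⁻¹) * b⁻¹ := by group
            _ = a := by rw [hya', hb2]
        · intro hbP
          exact hinv ((hcP b hbP).symm.trans hb1)
    refine ⟨Nat.card (Sylow 5 Q), ?_, ?_⟩
    · have h1 := (P : Subgroup Q).card_mul_index
      have h2 : (P : Subgroup Q).index = 2 * (normalizer (P : Set Q)).index := by
        rw [← relIndex_mul_index (H := (P : Subgroup Q)) (K := normalizer (P : Set Q)) le_normalizer, hrel]
      rw [← h1, hcard, h2, ← P.card_eq_index_normalizer]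
      ring
    · exact card_sylow_modEq_one 5 Q

theorem arith2 : ∀ n ∈ Nat.divisors 2880, n % 13 = 1 → n = 1 ∨ n = 40 ∨ n = 144 := by
  decide +kernel

theorem HQ.no_thirteen (H : HQ a) (hd : Nat.card Q ∣ 37440)
    (C2 : ∀ z c : Q, orderOf z = 13 → c * z = z * c → c ^ 2 = 1 → c = 1)
    (C3 : ∀ z c : Q, orderOf z = 13 → c * z = z * c → c ^ 3 = 1 → c = 1)
    (N3 : ∀ z x : Q, orderOf z = 13 → x * z * x⁻¹ ≠ z ^ 3)
    {m : ℕ} (hm : Nat.card Q = 10 * m) (hm5 : m % 5 = 1) : ¬ 13 ∣ Nat.card Q := by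
  intro h13
  have : Fact (Nat.Prime 13) := ⟨by norm_num⟩
  obtain ⟨z, hz⟩ := exists_prime_orderOf_dvd_card' 13 h13
  have hpz : IsPGroup 13 (zpowers z) := IsPGroup.of_card (n := 1) (by rw [Nat.card_zpowers, hz, pow_one])
  obtain ⟨R, hR⟩ := hpz.exists_le_sylow
  have hRz : (R : Subgroup Q) = zpowers z := by
    refine (Subgroup.eq_of_le_of_card_ge hR ?_).symm
    rw [Nat.card_zpowers, hz]
    obtain ⟨i, hi⟩ := IsPGroup.iff_card.mp R.2
    have h1 : Nat.card R ∣ 37440 := (Subgroup.card_subgroup_dvd_card _).trans hd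
    rw [hi] at h1 ⊢
    have : i < 2 := by
      by_contra hlt
      push Not at hlt
      have := (pow_dvd_pow 13 hlt).trans h1
      omega
    interval_cases i <;> norm_num
  -- the centralizer
  have hC13 : Nat.card (centralizer (zpowers z : Set Q)) = 13 := by
    have hcz : ∀ c ∈ centralizer (zpowers z : Set Q), c * z = z * c := by
      intro c hc
      exact ((Subgroup.mem_centralizer_iff.mp hc) z (mem_zpowers z)).symm
    have hdvd : Nat.card (centralizer (zpowers z : Set Q)) ∣ 2880 * 13 :=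
      (Subgroup.card_subgroup_dvd_card _).trans hd
    have hge : 13 ∣ Nat.card (centralizer (zpowers z : Set Q)) := by
      have hle : zpowers z ≤ centralizer (zpowers z : Set Q) := by
        intro y hy
        rw [Subgroup.mem_centralizer_iff]
        rintro _ ⟨j, rfl⟩
        obtain ⟨i, rfl⟩ := hy
        change z ^ j * z ^ i = z ^ i * z ^ j
        rw [← zpow_add, ← zpow_add, add_comm]
      have := Subgroup.card_dvd_of_le hle
      rw [Nat.card_zpowers, hz] at this
      exact this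
    have hcop : Nat.Coprime (Nat.card (centralizer (zpowers z : Set Q))) 2880 := by
      rw [Nat.coprime_comm]
      apply Nat.Coprime.symm
      apply Nat.Coprime.symm
      rw [show (2880 : ℕ) = 2 ^ 6 * 3 ^ 2 * 5 by norm_num]
      refine Nat.Coprime.mul_left (Nat.Coprime.mul_left (Nat.Coprime.pow_left _ ?_) (Nat.Coprime.pow_left _ ?_)) ?_
      · rw [Nat.Prime.coprime_iff_not_dvd (by norm_num)]
        intro h
        have : Fact (Nat.Prime 2) := ⟨by norm_num⟩
        obtain ⟨c, hc⟩ := exists_prime_orderOf_dvd_card' 2 h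
        have h1 := C2 z c hz (hcz c c.2) (by
          rw [← hc, ← Subgroup.coe_pow, pow_orderOf_eq_one]; rfl)
        rw [OneMemClass.coe_eq_one] at h1
        rw [h1, orderOf_one] at hc
        omega
      · rw [Nat.Prime.coprime_iff_not_dvd (by norm_num)]
        intro h
        have : Fact (Nat.Prime 3) := ⟨by norm_num⟩
        obtain ⟨c, hc⟩ := exists_prime_orderOf_dvd_card' 3 h
        have h1 := C3 z c hz (hcz c c.2) (by
          rw [← hc, ← Subgroup.coe_pow, pow_orderOf_eq_one]; rfl)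
        rw [OneMemClass.coe_eq_one] at h1
        rw [h1, orderOf_one] at hc
        omega
      · rw [Nat.Prime.coprime_iff_not_dvd (by norm_num)]
        intro h
        have : Fact (Nat.Prime 5) := ⟨by norm_num⟩
        obtain ⟨c, hc⟩ := exists_prime_orderOf_dvd_card' 5 h
        have hc' : orderOf (c : Q) = 5 := by rw [Subgroup.orderOf_coe]; exact hc
        obtain ⟨P, hP⟩ := H.sylow H.ord
        obtain ⟨P', hP'⟩ := H.sylow hc'
        obtain ⟨g, hg⟩ := MulAction.exists_smul_eq Q P' P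
        have h1 : g * (c : Q) * g⁻¹ ∈ zpowers a := by
          rw [← hP, ← hg, Sylow.coe_subgroup_smul]
          exact ⟨c, by rw [hP']; exact mem_zpowers _, rfl⟩
        rw [← (isOfFinOrder_of_finite a).mem_powers_iff_mem_zpowers] at h1
        obtain ⟨k, hk⟩ := h1
        have hk' : a ^ k = g * (c : Q) * g⁻¹ := hk
        have hk1 : a ^ k ≠ 1 := by
          rw [hk']
          intro h2
          have h3 : (c : Q) = 1 := by
            calc (c : Q) = g⁻¹ * (g * c * g⁻¹) * g := by group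
              _ = 1 := by rw [h2]; group
          rw [h3, orderOf_one] at hc'
          omega
        have h4 : (g * z * g⁻¹) * a ^ k = a ^ k * (g * z * g⁻¹) := by
          rw [hk']
          calc (g * z * g⁻¹) * (g * (c : Q) * g⁻¹) = g * (z * c) * g⁻¹ := by group
            _ = g * (c * z) * g⁻¹ := by rw [hcz c c.2]
            _ = (g * (c : Q) * g⁻¹) * (g * z * g⁻¹) := by group
        have h5 := Subgroup.orderOf_dvd_natCard _ (H.cent_pow hk1 h4)
        rw [Nat.card_zpowers, H.ord] at h5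
        have h6 : orderOf (g * z * g⁻¹) = 13 := by
          rw [← hz]
          exact orderOf_injective (MulAut.conj g).toMonoidHom (MulAut.conj g).injective z
        rw [h6] at h5
        omega
    have hdvd13 : Nat.card (centralizer (zpowers z : Set Q)) ∣ 13 := hcop.dvd_of_dvd_mul_left hdvd
    exact Nat.dvd_antisymm hdvd13 hge
  -- the normalizer
  obtain ⟨k, hk124, hk⟩ : ∃ k, k ∈ ({1, 2, 4} : Finset ℕ) ∧
      Nat.card (normalizer (zpowers z : Set Q)) = 13 * k := by
    set φ := (zpowers z).normalizerMonoidHom with hφ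
    have h1 : Nat.card φ.ker = 13 := by
      rw [hφ, Subgroup.normalizerMonoidHom_ker]
      rw [← hC13]
      exact Nat.card_congr (Subgroup.subgroupOfEquivOfLe (Subgroup.centralizer_le_normalizer _)).toEquiv
    have h2 : Nat.card (normalizer (zpowers z : Set Q)) = 13 * Nat.card φ.range := by
      rw [← h1]
      have := φ.ker.card_mul_index
      rw [Subgroup.index_ker] at this
      exact this.symm
    have h3 : Nat.card φ.range ∣ 12 := by
      refine (Subgroup.card_subgroup_dvd_card _).trans ?_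
      rw [IsCyclic.card_mulAut, Nat.card_zpowers, hz]
      decide
    have h4 : ¬ 3 ∣ Nat.card φ.range := by
      intro h
      have : Fact (Nat.Prime 3) := ⟨by norm_num⟩
      obtain ⟨⟨_, x, rfl⟩, hy⟩ := exists_prime_orderOf_dvd_card' 3 h
      rw [← Subgroup.orderOf_coe] at hy
      have hx3 : φ x ^ 3 = 1 := by rw [← hy]; exact pow_orderOf_eq_one _
      have hx1 : φ x ≠ 1 := by
        intro h1
        have hy' : orderOf (φ x) = 3 := hy
        rw [h1, orderOf_one] at hy'
        omega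
      have hval : ∀ (y : normalizer (zpowers z : Set Q)) (t : zpowers z),
          ((φ y t : zpowers z) : Q) = y * t * (y : Q)⁻¹ := fun y t => rfl
      have hmem := (φ x ⟨z, mem_zpowers z⟩).2
      rw [hval] at hmem
      obtain ⟨i, hi13, hi⟩ : ∃ i, i < 13 ∧ z ^ i = (x : Q) * z * (x : Q)⁻¹ := by
        obtain ⟨i, hi⟩ := (isOfFinOrder_of_finite z).mem_powers_iff_mem_zpowers.mpr hmem
        refine ⟨i % 13, Nat.mod_lt _ (by norm_num), ?_⟩
        rw [← hi, ← hz, pow_mod_orderOf]
      have hpow : ∀ j : ℕ, (x : Q) * z ^ j * (x : Q)⁻¹ = z ^ (i * j) := by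
        intro j
        rw [pow_mul, hi, conj_pow]
      have hx3' : z ^ (i * i * i) = z ^ 1 := by
        have h3 : ((φ (x ^ 3) ⟨z, mem_zpowers z⟩ : zpowers z) : Q) = z := by
          rw [map_pow, hx3]; rfl
        rw [hval] at h3
        rw [pow_one]
        calc z ^ (i * i * i) = z ^ (i * (i * i)) := by rw [mul_assoc]
          _ = (x : Q) * z ^ (i * i) * (x : Q)⁻¹ := (hpow _).symm
          _ = (x : Q) * ((x : Q) * z ^ i * (x : Q)⁻¹) * (x : Q)⁻¹ := by rw [hpow i]
          _ = (x : Q) * ((x : Q) * ((x : Q) * z * (x : Q)⁻¹) * (x : Q)⁻¹) * (x : Q)⁻¹ := by rw [← hi]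
          _ = ((x ^ 3 : normalizer (zpowers z : Set Q)) : Q) * z *
              ((x ^ 3 : normalizer (zpowers z : Set Q)) : Q)⁻¹ := by
              rw [Subgroup.coe_pow, show (x : Q) ^ 3 = x * x * x by rw [pow_succ, pow_succ, pow_one], mul_inv_rev,
                mul_inv_rev]
              simp only [mul_assoc]
          _ = z := h3
      rw [pow_eq_pow_iff_modEq, hz] at hx3'
      have hi39 : i = 1 ∨ i = 3 ∨ i = 9 := by
        have key : ∀ i < 13, i * i * i % 13 = 1 → i = 1 ∨ i = 3 ∨ i = 9 := by decide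
        exact key i hi13 hx3'
      rcases hi39 with rfl | rfl | rfl
      · apply hx1
        ext t
        rw [hval]
        obtain ⟨t, j, rfl⟩ := t
        rw [pow_one] at hi
        change (x : Q) * z ^ j * (x : Q)⁻¹ = z ^ j
        rw [← conj_zpow, ← hi]
      · exact N3 z x hz hi.symm
      · refine N3 z ((x : Q) * x) hz ?_
        calc (x : Q) * x * z * ((x : Q) * x)⁻¹ = x * (x * z * (x : Q)⁻¹) * (x : Q)⁻¹ := by group
          _ = z ^ (9 * 9) := by rw [← hi, hpow]
          _ = z ^ 3 := by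
            rw [pow_eq_pow_iff_modEq, hz]; decide
    have h5 : Nat.card φ.range ∈ Nat.divisors 12 := Nat.mem_divisors.mpr ⟨h3, by norm_num⟩
    have h6 : ∀ d ∈ Nat.divisors 12, ¬ 3 ∣ d → d ∈ ({1, 2, 4} : Finset ℕ) := by decide
    exact ⟨_, h6 _ h5 h4, h2⟩
  have h1 := (normalizer (zpowers z : Set Q)).card_mul_index
  have h2 : (normalizer (zpowers z : Set Q)).index = Nat.card (Sylow 13 Q) := by
    rw [R.card_eq_index_normalizer, ← hRz]
    rfl
  have h3 := card_sylow_modEq_one 13 Q
  rw [← h2] at h3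
  set n := (normalizer (zpowers z : Set Q)).index with hn
  rw [hk] at h1
  have h4 : n ∣ 2880 := by
    have h5 : 13 * k * n ∣ 37440 := by rw [h1]; exact hd
    have h6 : 13 * (k * n) ∣ 13 * 2880 := by rw [← mul_assoc]; exact h5
    exact (Dvd.intro_left k rfl).trans (Nat.dvd_of_mul_dvd_mul_left (by norm_num) h6)
  rw [hm] at h1
  have h5 := arith2 n (Nat.mem_divisors.mpr ⟨h4, by norm_num⟩) h3
  simp only [Finset.mem_insert, Finset.mem_singleton] at hk124
  rcases h5 with h5 | h5 | h5 <;> rcases hk124 with h6 | h6 | h6 <;> rw [h5, h6] at h1 <;> omega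

theorem arith3 : ∀ m ∈ Nat.divisors 3744, m % 5 = 1 → m = 1 ∨ m = 6 ∨ m = 16 ∨ m = 26 ∨ m = 36 ∨ m = 96 ∨
    13 ∣ 10 * m := by
  decide +kernel

/-- the orders of the simple groups in the situation -/
theorem HQ.orders (H : HQ a) [IsSimpleGroup Q] (hd : Nat.card Q ∣ 37440) (h13 : ∀ m, Nat.card Q = 10 * m → m % 5 = 1 →
    1092 < Nat.card Q → ¬ 13 ∣ Nat.card Q) :
    Nat.card Q = 5 ∨ Nat.card Q = 60 ∨ Nat.card Q = 360 := by
  rcases H.count with h | ⟨m, hm, hm5⟩
  · left; exact h
  right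
  have hmd : m ∣ 3744 := by
    have h6 : 10 * m ∣ 10 * 3744 := by rw [← hm]; exact hd
    exact Nat.dvd_of_mul_dvd_mul_left (by norm_num) h6
  have hnc : ¬ IsMulCommutative Q := by
    intro hc
    have h1 : zpowers a = ⊤ := by
      rw [eq_top_iff]
      intro x _
      exact H.cent x (hc.is_comm.comm x a)
    have h2 : Nat.card Q = 5 := by
      rw [← Subgroup.card_top (G := Q), ← h1, Nat.card_zpowers, H.ord]
    omega
  by_cases hle : Nat.card Q ≤ 1092
  · rcases Cfsg.Agent.S0496.result hnc hle with h | h | h | h | h | h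
    · left; exact h
    · exfalso; rw [h] at hd; omega
    · right; exact h
    · exfalso; rw [h] at hd; omega
    · exfalso; rw [h] at hd; omega
    · exfalso; rw [h] at hd; omega
  · exfalso
    push Not at hle
    have h1 := h13 m hm hm5 hle
    rw [hm] at h1
    rcases arith3 m (Nat.mem_divisors.mpr ⟨hmd, by norm_num⟩) hm5 with h | h | h | h | h | h | h
    · omega
    · omega
    · omega
    · omega
    · omega
    · omega
    · exact h1 h

/-- the normal subgroup of order 16 is elementary abelian -/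
theorem HQ.elem (H : HQ a) (hd : Nat.card Q ∣ 37440) {N : Subgroup Q} [hN : N.Normal] (h16 : Nat.card N = 16) :
    (∀ x ∈ N, ∀ y ∈ N, x * y = y * x) ∧ ∀ x ∈ N, x ^ 2 = 1 := by
  have : Fact (Nat.Prime 2) := ⟨by norm_num⟩
  have hp : IsPGroup 2 N := IsPGroup.of_card (n := 4) (by rw [h16]; norm_num)
  have hnt : Nontrivial N := by
    rw [← Finite.one_lt_card_iff_nontrivial, h16]; norm_num
  have hcomm : ∀ x ∈ N, ∀ y ∈ N, x * y = y * x := by
    have h1 : ((center N).map N.subtype).Normal := inferInstance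
    have h2 : Nat.card ((center N).map N.subtype) = Nat.card (center N) :=
      Subgroup.card_map_of_injective (Subgroup.subtype_injective N)
    have h3 : ¬ 5 ∣ Nat.card ((center N).map N.subtype) := by
      intro h
      have h4 := h.trans (h2 ▸ Subgroup.card_subgroup_dvd_card (center N))
      rw [h16] at h4
      omega
    have h5 : Nontrivial (center N) := hp.center_nontrivial
    have h6 : 1 < Nat.card (center N) := Finite.one_lt_card_iff_nontrivial.mpr h5
    rcases H.small hd h3 with h7 | h7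
    · omega
    · have h8 : center N = ⊤ := Subgroup.eq_top_of_card_eq _ (by rw [← h2, h7, h16])
      intro x hx y hy
      have h9 : (⟨x, hx⟩ : N) ∈ center N := by rw [h8]; exact Subgroup.mem_top _
      have := (Subgroup.mem_center_iff.mp h9) ⟨y, hy⟩
      exact (congrArg Subtype.val this).symm
  refine ⟨hcomm, ?_⟩
  let E : Subgroup Q :=
    { carrier := {x | x ∈ N ∧ x ^ 2 = 1}
      one_mem' := ⟨N.one_mem, one_pow 2⟩
      mul_mem' := by
        rintro x y ⟨hx, hx2⟩ ⟨hy, hy2⟩
        refine ⟨N.mul_mem hx hy, ?_⟩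
        have : Commute x y := hcomm x hx y hy
        rw [this.mul_pow, hx2, hy2, one_mul]
      inv_mem' := by
        rintro x ⟨hx, hx2⟩
        exact ⟨N.inv_mem hx, by rw [inv_pow, hx2, inv_one]⟩ }
  have hE : E.Normal := ⟨by
    rintro x ⟨hx, hx2⟩ g
    exact ⟨hN.conj_mem x hx g, by rw [conj_pow, hx2, mul_one, mul_inv_cancel]⟩⟩
  have hEN : E ≤ N := fun x hx => hx.1
  have hE5 : ¬ 5 ∣ Nat.card E := by
    intro h
    have h4 := h.trans (Subgroup.card_dvd_of_le hEN)
    rw [h16] at h4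
    omega
  rcases H.small hd hE5 with h | h
  · exfalso
    obtain ⟨y, hy⟩ := exists_prime_orderOf_dvd_card' (G := N) 2 (by rw [h16]; norm_num)
    have h1 : (y : Q) ∈ E := ⟨y.2, by
      rw [← Subgroup.coe_pow, ← hy, pow_orderOf_eq_one]; rfl⟩
    rw [Subgroup.card_eq_one.mp h, Subgroup.mem_bot, OneMemClass.coe_eq_one] at h1
    rw [h1, orderOf_one] at hy
    omega
  · have h1 : E = N := Subgroup.eq_of_le_of_card_ge hEN (by rw [h, h16])
    intro x hx
    rw [← h1] at hx
    exact hx.2

/-- **the abstract classification** -/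
theorem HQ.main (H : HQ a) (hd : Nat.card Q ∣ 37440) (hne : Nat.card Q ≠ 5)
    (C2 : ∀ z c : Q, orderOf z = 13 → c * z = z * c → c ^ 2 = 1 → c = 1)
    (C3 : ∀ z c : Q, orderOf z = 13 → c * z = z * c → c ^ 3 = 1 → c = 1)
    (N3 : ∀ z x : Q, orderOf z = 13 → x * z * x⁻¹ ≠ z ^ 3) :
    (∃ N : Subgroup Q, N.Normal ∧ Nat.card N = 16 ∧ (∀ x ∈ N, ∀ y ∈ N, x * y = y * x) ∧ (∀ x ∈ N, x ^ 2 = 1) ∧
      (Nat.card Q = 80 ∨ Nat.card Q = 960)) ∨ Nat.card Q = 60 ∨ Nat.card Q = 360 := by
  by_cases hN : ∃ N : Subgroup Q, N.Normal ∧ Nat.card N = 16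
  · left
    obtain ⟨N, hN, h16⟩ := hN
    obtain ⟨h1, h2⟩ := H.elem hd h16
    refine ⟨N, hN, h16, h1, h2, ?_⟩
    have h5 : ¬ 5 ∣ Nat.card N := by rw [h16]; norm_num
    have H' := H.quot N h5
    have hcard := N.card_eq_card_quotient_mul_card_subgroup
    rw [h16] at hcard
    have hd' : Nat.card (Q ⧸ N) ∣ 2340 := by
      rw [hcard] at hd
      exact Nat.dvd_of_mul_dvd_mul_right (k := 16) (by norm_num) (by norm_num; exact hd)
    have hd'' : Nat.card (Q ⧸ N) ∣ 37440 := hd'.trans (by norm_num)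
    have hs : IsSimpleGroup (Q ⧸ N) := H'.simple (by
      intro M hM hM5
      rcases H'.small hd'' hM5 with h | h
      · exact Subgroup.card_eq_one.mp h
      · exfalso
        have := (Subgroup.card_subgroup_dvd_card M).trans hd'
        rw [h] at this
        omega)
    rcases H'.orders hd'' (by
      intro m hm hm5 hlt h13
      rw [hm] at hd' hlt
      have hmd : m ∣ 234 := by
        exact Nat.dvd_of_mul_dvd_mul_left (k := 10) (by norm_num) (by norm_num; exact hd')
      have hm' : m ∈ Nat.divisors 234 := Nat.mem_divisors.mpr ⟨hmd, by norm_num⟩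
      have key : ∀ m ∈ Nat.divisors 234, m % 5 = 1 → ¬ 1092 < 10 * m := by decide +kernel
      exact key m hm' hm5 hlt) with h | h | h
    · left; rw [hcard, h]
    · right; rw [hcard, h]
    · exfalso
      rw [h] at hd'
      omega
  · right
    have hs : IsSimpleGroup Q := H.simple (by
      intro M hM hM5
      rcases H.small hd hM5 with h | h
      · exact Subgroup.card_eq_one.mp h
      · exact absurd ⟨M, hM, h⟩ hN)
    rcases H.orders hd (fun m hm hm5 _ => H.no_thirteen hd C2 C3 N3 hm hm5) with h | h | h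
    · exact absurd h hne
    · left; exact h
    · right; exact h

end Cfsg.Agent.H689.Q5
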